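import Mathlib
import Groth.Prelude.Def_W4c4chowquasisplitPn

/-!
# The involution on the truncated algebra `P n` lifted to the polynomial ring
-/

set_option autoImplicit false
set_option linter.unusedSectionVars false
set_option linter.unusedVariables false
set_option maxHeartbeats 400000

noncomputable section

namespace Groth.Agent.Lib.Helper6.QsChowLib

open MvPolynomial QsChow

lemma numVars_pos (n : ℕ) : 0 < numVars n := by
  unfold numVars
  omega

/-- the index of `ε_1` -/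
def i0 (n : ℕ) : Fin (numVars n) := ⟨0, numVars_pos n⟩

/-- the lifted involution -/
def tauT (n : ℕ) : FreeP n →ₐ[ZMod 2] FreeP n :=
  aeval (fun i : Fin (numVars n) =>
    if i.val = 0 then (X i : FreeP n) else X i + X (i0 n) ^ (2 * (i.val + 1) - 3))

lemma tauT_X (n : ℕ) (i : Fin (numVars n)) :
    tauT n (X i) = if i.val = 0 then (X i : FreeP n) else X i + X (i0 n) ^ (2 * (i.val + 1) - 3) := by
  unfold tauT
  rw [aeval_X]

lemma add_self_freeP (n : ℕ) (a : FreeP n) : a + a = 0 := by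
  rw [← two_smul (ZMod 2) a]
  have h : (2 : ZMod 2) = 0 := by decide
  rw [h, zero_smul]

lemma add_self_P (n : ℕ) (a : P n) : a + a = 0 := by
  rw [← two_smul (ZMod 2) a]
  have h : (2 : ZMod 2) = 0 := by decide
  rw [h, zero_smul]

lemma tauT_X0 (n : ℕ) : tauT n (X (i0 n)) = X (i0 n) := by
  rw [tauT_X, if_pos (show (i0 n).val = 0 from rfl)]

lemma tauT_tauT (n : ℕ) (a : FreeP n) : tauT n (tauT n a) = a := by
  have h : (tauT n).comp (tauT n) = AlgHom.id (ZMod 2) (FreeP n) := by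
    apply MvPolynomial.algHom_ext
    intro i
    rw [AlgHom.comp_apply, AlgHom.id_apply, tauT_X]
    split_ifs with h
    · rw [tauT_X, if_pos h]
    · rw [map_add, map_pow, tauT_X0, tauT_X, if_neg h, add_assoc, add_self_freeP, add_zero]
  exact DFunLike.congr_fun h a

lemma exists_div (n : ℕ) (a : FreeP n) : ∃ w : FreeP n, a + tauT n a = X (i0 n) * w := by
  induction a using MvPolynomial.induction_on with
  | C c =>
    refine ⟨0, ?_⟩
    rw [← algebraMap_eq, AlgHom.commutes, add_self_freeP, mul_zero]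
  | add p q hp hq =>
    obtain ⟨w1, h1⟩ := hp
    obtain ⟨w2, h2⟩ := hq
    refine ⟨w1 + w2, ?_⟩
    rw [map_add, mul_add, ← h1, ← h2, add_add_add_comm]
  | mul_X p i hp =>
    obtain ⟨w, hw⟩ := hp
    rw [map_mul, tauT_X]
    split_ifs with h
    · refine ⟨w * X i, ?_⟩
      rw [← add_mul, hw, mul_assoc]
    · have he : 2 * (i.val + 1) - 3 = (2 * (i.val + 1) - 4) + 1 := by omega
      refine ⟨w * X i + tauT n p * X (i0 n) ^ (2 * (i.val + 1) - 4), ?_⟩
      rw [he, pow_succ]
      linear_combination (X i) * hw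

lemma fixed_of_div (n : ℕ) (a w : FreeP n) (hw : a + tauT n a = X (i0 n) * w) :
    tauT n w = w := by
  have : Fact (Nat.Prime 2) := ⟨Nat.prime_two⟩
  have h1 : X (i0 n) * tauT n w = X (i0 n) * w := by
    rw [← tauT_X0 n, ← map_mul, tauT_X0, ← hw, map_add, tauT_tauT, add_comm]
  exact mul_left_cancel₀ (X_ne_zero (i0 n)) h1

lemma eps_eq (n : ℕ) (i : Fin (numVars n)) :
    eps n (i.val + 1) = Ideal.Quotient.mk (truncIdeal n) (X i) := by
  unfold eps
  rw [dif_pos ⟨Nat.succ_pos _, i.isLt⟩]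
  rfl

lemma eps_one (n : ℕ) : eps n 1 = Ideal.Quotient.mk (truncIdeal n) (X (i0 n)) :=
  eps_eq n (i0 n)

lemma tau_mk (n : ℕ) (τ : P n →ₐ[ZMod 2] P n) (hτ1 : τ (eps n 1) = eps n 1)
    (hτ : ∀ j : ℕ, 2 ≤ j → j ≤ numVars n → τ (eps n j) = eps n j + eps n 1 ^ (2 * j - 3))
    (a : FreeP n) :
    τ (Ideal.Quotient.mk (truncIdeal n) a) = Ideal.Quotient.mk (truncIdeal n) (tauT n a) := by
  have h : τ.comp (Ideal.Quotient.mkₐ (ZMod 2) (truncIdeal n)) =
      (Ideal.Quotient.mkₐ (ZMod 2) (truncIdeal n)).comp (tauT n) := by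
    apply MvPolynomial.algHom_ext
    intro i
    rw [AlgHom.comp_apply, AlgHom.comp_apply]
    change τ (Ideal.Quotient.mk (truncIdeal n) (X i)) =
      Ideal.Quotient.mk (truncIdeal n) (tauT n (X i))
    rw [tauT_X, ← eps_eq]
    split_ifs with h
    · rw [h, zero_add, hτ1, ← eps_eq, h]
    · rw [hτ (i.val + 1) (by omega) i.isLt, map_add, map_pow, ← eps_eq, ← eps_one]
  have h2 := DFunLike.congr_fun h a
  exact h2

theorem main17739 (n : ℕ) (hn : 2 ≤ n)
    (τ : P n →ₐ[ZMod 2] P n) (hτ1 : τ (eps n 1) = eps n 1)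
    (hτ : ∀ j : ℕ, 2 ≤ j → j ≤ numVars n → τ (eps n j) = eps n j + eps n 1 ^ (2 * j - 3)) :
    Set.range (fun y : P n => y + τ y) =
      (fun z : P n => eps n 1 * z) ''
        (AlgHom.equalizer τ (AlgHom.id (ZMod 2) (P n)) : Set (P n)) := by
  ext v
  constructor
  · rintro ⟨y, rfl⟩
    obtain ⟨a, rfl⟩ := Ideal.Quotient.mk_surjective y
    obtain ⟨w, hw⟩ := exists_div n a
    have hwfix : tauT n w = w := fixed_of_div n a w hw
    refine ⟨Ideal.Quotient.mk _ w, ?_, ?_⟩
    · rw [SetLike.mem_coe, AlgHom.mem_equalizer, tau_mk n τ hτ1 hτ, hwfix, AlgHom.id_apply]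
    · change eps n 1 * Ideal.Quotient.mk _ w =
        Ideal.Quotient.mk _ a + τ (Ideal.Quotient.mk _ a)
      rw [tau_mk n τ hτ1 hτ, ← map_add, hw, map_mul, eps_one]
  · rintro ⟨z, hz, rfl⟩
    have hz' : τ z = z := by
      rw [SetLike.mem_coe, AlgHom.mem_equalizer, AlgHom.id_apply] at hz
      exact hz
    refine ⟨eps n 2 * z, ?_⟩
    change eps n 2 * z + τ (eps n 2 * z) = eps n 1 * z
    have h2 : 2 ≤ numVars n := by
      unfold numVars
      omega
    have h3 : 2 * 2 - 3 = 1 := rfl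
    rw [map_mul, hz', hτ 2 le_rfl h2, h3, pow_one, add_mul, ← add_assoc, add_self_P, zero_add]

end Groth.Agent.Lib.Helper6.QsChowLib
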