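import Mathlib
import Groth.Prelude.Def_W4c4chowquasisplitPn
import Groth.Agent.Lib.Helper6.QsChow.QC1

/-!
# Structure of the `τ`-fixed subalgebra of `P n`: `P = B + B·ε₂`, `Ann ε₁ = ε₁^(n-1) P`
-/

set_option autoImplicit false
set_option linter.unusedSectionVars false
set_option linter.unusedVariables false
set_option linter.unusedSimpArgs false
set_option maxHeartbeats 400000

noncomputable section

namespace Groth.Agent.Lib.Helper6.QsChowLib

open MvPolynomial QsChow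

lemma two_eq_zero_P (n : ℕ) : (2 : P n) = 0 := by
  have h := add_self_P n (1 : P n)
  rw [one_add_one_eq_two] at h
  exact h

lemma numVars_ge_two (n : ℕ) (hn : 2 ≤ n) : 2 ≤ numVars n := by
  unfold numVars
  omega

/-- the index of `ε_2` -/
def i1 (n : ℕ) (hn : 2 ≤ n) : Fin (numVars n) := ⟨1, numVars_ge_two n hn⟩

lemma eps_two (n : ℕ) (hn : 2 ≤ n) :
    eps n 2 = Ideal.Quotient.mk (truncIdeal n) (X (i1 n hn)) :=
  eps_eq n (i1 n hn)

lemma eps_one_pow (n : ℕ) : eps n 1 ^ n = 0 := by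
  rw [eps_one, ← map_pow]
  apply Ideal.Quotient.eq_zero_iff_mem.mpr
  apply Ideal.subset_span
  refine ⟨i0 n, ?_⟩
  show X (i0 n) ^ bound n (i0 n) = X (i0 n) ^ n
  unfold bound
  rw [if_pos (show (i0 n).val = 0 from rfl)]

lemma phi_some (n : ℕ) (i : Fin (numVars n)) : phi n (X (some i)) = genImage n (some i) := by
  unfold phi
  rw [aeval_X]

lemma phi_none (n : ℕ) : phi n (X none) = genImage n none := by
  unfold phi
  rw [aeval_X]

lemma genImage_some (n : ℕ) (i : Fin (numVars n)) :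
    genImage n (some i) = (if i.val = 0 then eps n 1 else
      if i.val = 1 then eps n 2 ^ 2 + eps n 1 * eps n 2 else
        eps n (i.val + 1) + eps n 1 ^ (2 * (i.val + 1) - 4) * eps n 2) := rfl

lemma t_mem (n : ℕ) : eps n 1 ∈ (phi n).range := by
  refine (AlgHom.mem_range _).mpr ⟨X (some (i0 n)), ?_⟩
  rw [phi_some, genImage_some, if_pos (show (i0 n).val = 0 from rfl)]

lemma e2_mem (n : ℕ) (hn : 2 ≤ n) : eps n 2 ^ 2 + eps n 1 * eps n 2 ∈ (phi n).range := by
  refine (AlgHom.mem_range _).mpr ⟨X (some (i1 n hn)), ?_⟩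
  rw [phi_some, genImage_some,
    if_neg (show ¬ (i1 n hn).val = 0 by show ¬ (1 = 0); omega),
    if_pos (show (i1 n hn).val = 1 from rfl)]

lemma ej_mem (n : ℕ) (i : Fin (numVars n)) (hi : 2 ≤ i.val) :
    eps n (i.val + 1) + eps n 1 ^ (2 * (i.val + 1) - 4) * eps n 2 ∈ (phi n).range := by
  refine (AlgHom.mem_range _).mpr ⟨X (some i), ?_⟩
  rw [phi_some, genImage_some, if_neg (by omega), if_neg (by omega)]

lemma x_mem (n : ℕ) : eps n 1 ^ (n - 1) * eps n 2 ∈ (phi n).range := by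
  refine (AlgHom.mem_range _).mpr ⟨X none, ?_⟩
  rw [phi_none]
  rfl

/-- `z ∈ B + B ε₂`. -/
def InM (n : ℕ) (z : P n) : Prop :=
  ∃ b0 ∈ (phi n).range, ∃ b1 ∈ (phi n).range, z = b0 + b1 * eps n 2

lemma InM.of_mem {n : ℕ} {z : P n} (hz : z ∈ (phi n).range) : InM n z :=
  ⟨z, hz, 0, Subalgebra.zero_mem _, by rw [zero_mul, add_zero]⟩

lemma InM.u (n : ℕ) : InM n (eps n 2) :=
  ⟨0, Subalgebra.zero_mem _, 1, Subalgebra.one_mem _, by rw [one_mul, zero_add]⟩

lemma InM.add {n : ℕ} {z w : P n} (hz : InM n z) (hw : InM n w) : InM n (z + w) := by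
  obtain ⟨b0, hb0, b1, hb1, rfl⟩ := hz
  obtain ⟨c0, hc0, c1, hc1, rfl⟩ := hw
  exact ⟨b0 + c0, Subalgebra.add_mem _ hb0 hc0, b1 + c1, Subalgebra.add_mem _ hb1 hc1, by ring⟩

lemma InM.mul {n : ℕ} (hn : 2 ≤ n) {z w : P n} (hz : InM n z) (hw : InM n w) : InM n (z * w) := by
  obtain ⟨b0, hb0, b1, hb1, rfl⟩ := hz
  obtain ⟨c0, hc0, c1, hc1, rfl⟩ := hw
  have he2 := e2_mem n hn
  have ht := t_mem n
  refine ⟨b0 * c0 + b1 * c1 * (eps n 2 ^ 2 + eps n 1 * eps n 2),
    Subalgebra.add_mem _ (Subalgebra.mul_mem _ hb0 hc0)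
      (Subalgebra.mul_mem _ (Subalgebra.mul_mem _ hb1 hc1) he2),
    b0 * c1 + b1 * c0 + b1 * c1 * eps n 1,
    Subalgebra.add_mem _ (Subalgebra.add_mem _ (Subalgebra.mul_mem _ hb0 hc1)
      (Subalgebra.mul_mem _ hb1 hc0)) (Subalgebra.mul_mem _ (Subalgebra.mul_mem _ hb1 hc1) ht), ?_⟩
  linear_combination (- b1 * c1 * eps n 1 * eps n 2) * two_eq_zero_P n

lemma InM.ofEps {n : ℕ} (hn : 2 ≤ n) (i : Fin (numVars n)) : InM n (eps n (i.val + 1)) := by
  by_cases h0 : i.val = 0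
  · rw [h0]
    exact InM.of_mem (t_mem n)
  by_cases h1 : i.val = 1
  · rw [h1]
    exact InM.u n
  have hi : 2 ≤ i.val := by omega
  refine ⟨_, ej_mem n i hi, eps n 1 ^ (2 * (i.val + 1) - 4),
    Subalgebra.pow_mem _ (t_mem n) _, ?_⟩
  linear_combination (- eps n 1 ^ (2 * (i.val + 1) - 4) * eps n 2) * two_eq_zero_P n

theorem all_InM {n : ℕ} (hn : 2 ≤ n) (z : P n) : InM n z := by
  obtain ⟨a, rfl⟩ := Ideal.Quotient.mk_surjective z
  induction a using MvPolynomial.induction_on with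
  | C c =>
    apply InM.of_mem
    have : (Ideal.Quotient.mk (truncIdeal n)) (C c) = algebraMap (ZMod 2) (P n) c := rfl
    rw [this]
    exact Subalgebra.algebraMap_mem _ c
  | add p q hp hq =>
    rw [map_add]
    exact hp.add hq
  | mul_X p i hp =>
    rw [map_mul, ← eps_eq]
    exact hp.mul hn (InM.ofEps hn i)

/-- `Ann(ε₁) = ε₁^(n-1) P`. -/
theorem ann_eps_one {n : ℕ} (hn : 2 ≤ n) (a : P n) (ha : eps n 1 * a = 0) :
    ∃ c : P n, a = eps n 1 ^ (n - 1) * c := by
  obtain ⟨g, rfl⟩ := Ideal.Quotient.mk_surjective a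
  rw [eps_one, ← map_mul] at ha
  have hmem : X (i0 n) * g ∈ truncIdeal n := Ideal.Quotient.eq_zero_iff_mem.mp ha
  -- monomial description of the ideal
  let S : Set (Fin (numVars n) →₀ ℕ) := Set.range fun i => Finsupp.single i (bound n i)
  have hI : truncIdeal n = Ideal.span ((fun s => monomial s (1 : ZMod 2)) '' S) := by
    unfold truncIdeal
    congr 1
    ext q
    constructor
    · rintro ⟨i, rfl⟩
      exact ⟨Finsupp.single i (bound n i), ⟨i, rfl⟩, X_pow_eq_monomial.symm⟩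
    · rintro ⟨s, ⟨i, rfl⟩, rfl⟩
      exact ⟨i, X_pow_eq_monomial⟩
  let S' : Set (Fin (numVars n) →₀ ℕ) := S ∪ {Finsupp.single (i0 n) (n - 1)}
  have hg : g ∈ Ideal.span ((fun s => monomial s (1 : ZMod 2)) '' S') := by
    rw [mem_ideal_span_monomial_image]
    intro m hm
    rw [hI, mem_ideal_span_monomial_image] at hmem
    have hm' : (Finsupp.single (i0 n) 1 + m) ∈ (X (i0 n) * g).support := by
      rw [support_X_mul]
      exact Finset.mem_map.mpr ⟨m, hm, rfl⟩
    obtain ⟨s, ⟨i, rfl⟩, hle⟩ := hmem _ hm'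
    by_cases hi : i = i0 n
    · subst hi
      refine ⟨Finsupp.single (i0 n) (n - 1), Or.inr rfl, ?_⟩
      have h1 := hle (i0 n)
      rw [Finsupp.single_eq_same, Finsupp.add_apply, Finsupp.single_eq_same] at h1
      have hb : bound n (i0 n) = n := by
        unfold bound
        rw [if_pos (show (i0 n).val = 0 from rfl)]
      rw [hb] at h1
      intro j
      by_cases hj : j = i0 n
      · subst hj
        rw [Finsupp.single_eq_same]
        omega
      · rw [Finsupp.single_eq_of_ne hj]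
        exact Nat.zero_le _
    · refine ⟨Finsupp.single i (bound n i), Or.inl ⟨i, rfl⟩, ?_⟩
      intro j
      by_cases hj : j = i
      · subst hj
        have h1 := hle j
        rw [Finsupp.single_eq_same, Finsupp.add_apply,
          Finsupp.single_eq_of_ne hi, zero_add] at h1
        rw [Finsupp.single_eq_same]
        exact h1
      · rw [Finsupp.single_eq_of_ne hj]
        exact Nat.zero_le _
  rw [Set.image_union, Ideal.span_union, ← hI, Set.image_singleton, ← X_pow_eq_monomial] at hg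
  obtain ⟨g1, hg1, g2, hg2, rfl⟩ := Submodule.mem_sup.mp hg
  obtain ⟨c, rfl⟩ := Ideal.mem_span_singleton'.mp hg2
  refine ⟨Ideal.Quotient.mk _ c, ?_⟩
  rw [map_add, Ideal.Quotient.eq_zero_iff_mem.mpr hg1, zero_add, map_mul, map_pow, ← eps_one,
    mul_comm]

section tau

variable {n : ℕ} (hn : 2 ≤ n)
  (τ : P n →ₐ[ZMod 2] P n) (hτ1 : τ (eps n 1) = eps n 1)
  (hτ : ∀ j : ℕ, 2 ≤ j → j ≤ numVars n → τ (eps n j) = eps n j + eps n 1 ^ (2 * j - 3))

include hn hτ in
lemma tau_u : τ (eps n 2) = eps n 2 + eps n 1 := by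
  have h := hτ 2 le_rfl (numVars_ge_two n hn)
  have h3 : 2 * 2 - 3 = 1 := rfl
  rw [h, h3, pow_one]

include hn hτ1 hτ in
theorem tau_phi (q : FreeE n) : τ (phi n q) = phi n q := by
  have h : τ.comp (phi n) = phi n := by
    apply MvPolynomial.algHom_ext
    intro o
    rw [AlgHom.comp_apply]
    cases o with
    | none =>
      rw [phi_none]
      show τ (eps n 1 ^ (n - 1) * eps n 2) = eps n 1 ^ (n - 1) * eps n 2
      rw [map_mul, map_pow, hτ1, tau_u hn τ hτ, mul_add, ← pow_succ,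
        show n - 1 + 1 = n by omega, eps_one_pow, add_zero]
    | some i =>
      rw [phi_some]
      have hg : genImage n (some i) = (if i.val = 0 then eps n 1 else
        if i.val = 1 then eps n 2 ^ 2 + eps n 1 * eps n 2 else
          eps n (i.val + 1) + eps n 1 ^ (2 * (i.val + 1) - 4) * eps n 2) := rfl
      rw [hg]
      by_cases h0 : i.val = 0
      · rw [if_pos h0, hτ1]
      by_cases h1 : i.val = 1
      · rw [if_neg h0, if_pos h1, map_add, map_pow, map_mul, hτ1, tau_u hn τ hτ]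
        linear_combination (eps n 2 * eps n 1 + eps n 1 ^ 2) * two_eq_zero_P n
      · rw [if_neg h0, if_neg h1, map_add, map_mul, map_pow, hτ1, tau_u hn τ hτ,
          hτ (i.val + 1) (by omega) i.isLt,
          show 2 * (i.val + 1) - 3 = (2 * (i.val + 1) - 4) + 1 by omega, pow_succ]
        linear_combination (eps n 1 ^ (2 * (i.val + 1) - 4) * eps n 1) * two_eq_zero_P n
  exact DFunLike.congr_fun h q

include hn hτ1 hτ in
lemma tau_of_mem {b : P n} (hb : b ∈ (phi n).range) : τ b = b := by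
  obtain ⟨q, rfl⟩ := hb
  exact tau_phi hn τ hτ1 hτ q

include hn hτ1 hτ in
/-- `τ (b0 + b1 u) = (b0 + b1 u) + b1 t`. -/
lemma tau_decomp {b0 b1 : P n} (hb0 : b0 ∈ (phi n).range) (hb1 : b1 ∈ (phi n).range) :
    τ (b0 + b1 * eps n 2) = (b0 + b1 * eps n 2) + b1 * eps n 1 := by
  rw [map_add, map_mul, tau_of_mem hn τ hτ1 hτ hb0, tau_of_mem hn τ hτ1 hτ hb1, tau_u hn τ hτ]
  ring

include hn hτ1 hτ in
theorem main17741 :
    (phi n).range = AlgHom.equalizer τ (AlgHom.id (ZMod 2) (P n)) := by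
  ext z
  rw [AlgHom.mem_equalizer, AlgHom.id_apply]
  constructor
  · intro hz
    exact tau_of_mem hn τ hτ1 hτ hz
  · intro hz
    obtain ⟨b0, hb0, b1, hb1, rfl⟩ := all_InM hn z
    rw [tau_decomp hn τ hτ1 hτ hb0 hb1] at hz
    have h1 : eps n 1 * b1 = 0 := by
      have := add_eq_left.mp hz
      rw [mul_comm]; exact this
    obtain ⟨c, rfl⟩ := ann_eps_one hn b1 h1
    obtain ⟨c0, hc0, c1, hc1, rfl⟩ := all_InM hn c
    have hkey : eps n 1 ^ (n - 1) * (c0 + c1 * eps n 2) * eps n 2 =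
        c0 * (eps n 1 ^ (n - 1) * eps n 2) +
          c1 * eps n 1 ^ (n - 1) * (eps n 2 ^ 2 + eps n 1 * eps n 2) := by
      have hz0 : eps n 1 ^ (n - 1) * eps n 1 = 0 := by
        rw [← pow_succ, show n - 1 + 1 = n by omega, eps_one_pow]
      linear_combination (- c1 * eps n 2) * hz0
    rw [hkey]
    refine Subalgebra.add_mem _ hb0 (Subalgebra.add_mem _ ?_ ?_)
    · exact Subalgebra.mul_mem _ hc0 (x_mem n)
    · exact Subalgebra.mul_mem _ (Subalgebra.mul_mem _ hc1 (Subalgebra.pow_mem _ (t_mem n) _))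
        (e2_mem n hn)

include hn hτ1 hτ in
theorem main17740 (m : ℕ) (hm1 : 1 ≤ m) (hmn : m ≤ n) (y : P n)
    (hy : y + τ y ∈ Ideal.span ({eps n 1 ^ m} : Set (P n))) :
    ∃ z : P n, τ z = z ∧ y + τ y = eps n 1 ^ m * z := by
  obtain ⟨w, hw⟩ := Ideal.mem_span_singleton'.mp hy
  obtain ⟨b0, hb0, b1, hb1, rfl⟩ := all_InM hn y
  have hsum : (b0 + b1 * eps n 2) + τ (b0 + b1 * eps n 2) = b1 * eps n 1 := by
    rw [tau_decomp hn τ hτ1 hτ hb0 hb1]
    linear_combination (b0 + b1 * eps n 2) * two_eq_zero_P n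
  rw [hsum] at hw ⊢
  -- hw : w * t^m = b1 * t
  have hpm : eps n 1 ^ m = eps n 1 * eps n 1 ^ (m - 1) := by
    rw [← pow_succ', show m - 1 + 1 = m by omega]
  have h1 : eps n 1 * (b1 + eps n 1 ^ (m - 1) * w) = 0 := by
    rw [hpm] at hw
    linear_combination hw + (b1 * eps n 1) * two_eq_zero_P n
  obtain ⟨c, hc⟩ := ann_eps_one hn _ h1
  have hb1eq : b1 = eps n 1 ^ (m - 1) * w + eps n 1 ^ (n - 1) * c := by
    linear_combination hc - (eps n 1 ^ (m - 1) * w) * two_eq_zero_P n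
  obtain ⟨w0, hw0, w1, hw1, rfl⟩ := all_InM hn w
  obtain ⟨c0, hc0, c1, hc1, rfl⟩ := all_InM hn c
  have hfix := tau_of_mem hn τ hτ1 hτ hb1
  have hz0 : eps n 1 ^ (n - 1) * eps n 1 = 0 := by
    rw [← pow_succ, show n - 1 + 1 = n by omega, eps_one_pow]
  have hw1z : eps n 1 ^ m * w1 = 0 := by
    have h2 : τ b1 = b1 + eps n 1 ^ m * w1 := by
      conv_lhs => rw [hb1eq]
      rw [map_add, map_mul, map_mul, map_pow, map_pow, hτ1, tau_decomp hn τ hτ1 hτ hw0 hw1,
        tau_decomp hn τ hτ1 hτ hc0 hc1, hpm]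
      conv_rhs => rw [hb1eq]
      linear_combination c1 * hz0
    rw [hfix] at h2
    exact (add_eq_left.mp h2.symm)
  refine ⟨w0, tau_of_mem hn τ hτ1 hτ hw0, ?_⟩
  rw [← hw]
  linear_combination (eps n 2) * hw1z

end tau

end Groth.Agent.Lib.Helper6.QsChowLib
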