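import Mathlib
import Groth.Prelude.Def_W4c4chowquasisplitPn
import Groth.Agent.Lib.Helper6.QsChow.QC2

/-!
# `presIdeal n ≤ ker (phi n)`
-/

set_option autoImplicit false
set_option linter.unusedSectionVars false
set_option linter.unusedVariables false
set_option linter.unusedSimpArgs false
set_option maxHeartbeats 400000

noncomputable section

namespace Groth.Agent.Lib.Helper6.QsChowLib

open MvPolynomial QsChow

/-- Frobenius-type additivity in a ring with `2 = 0`. -/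
lemma add_pow_two_pow {R : Type*} [CommRing R] (h2 : (2 : R) = 0) (a b : R) (k : ℕ) :
    (a + b) ^ (2 ^ k) = a ^ (2 ^ k) + b ^ (2 ^ k) := by
  induction k with
  | zero => simp
  | succ k ih =>
    rw [pow_succ, pow_mul, ih, pow_mul, pow_mul]
    linear_combination (a ^ 2 ^ k * b ^ 2 ^ k) * h2

lemma telescope {R : Type*} [CommRing R] (h2 : (2 : R) = 0) (t u : R) (k : ℕ) :
    ∑ i ∈ Finset.range k, t ^ (2 ^ k - 2 ^ (i + 1)) * (u ^ 2 + t * u) ^ 2 ^ i =
      u ^ 2 ^ k + t ^ (2 ^ k - 1) * u := by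
  induction k with
  | zero =>
    rw [Finset.range_zero, Finset.sum_empty, pow_zero, pow_one, Nat.sub_self, pow_zero, one_mul]
    linear_combination (-u) * h2
  | succ k ih =>
    rw [Finset.sum_range_succ, Nat.sub_self, pow_zero, one_mul, add_pow_two_pow h2]
    have h1 : ∑ i ∈ Finset.range k, t ^ (2 ^ (k + 1) - 2 ^ (i + 1)) * (u ^ 2 + t * u) ^ 2 ^ i =
        t ^ 2 ^ k * ∑ i ∈ Finset.range k, t ^ (2 ^ k - 2 ^ (i + 1)) * (u ^ 2 + t * u) ^ 2 ^ i := by
      rw [Finset.mul_sum]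
      apply Finset.sum_congr rfl
      intro i hi
      have hik : i + 1 ≤ k := Finset.mem_range.mp hi
      have hle : 2 ^ (i + 1) ≤ 2 ^ k := Nat.pow_le_pow_right (by norm_num) hik
      have he : 2 ^ (k + 1) - 2 ^ (i + 1) = 2 ^ k + (2 ^ k - 2 ^ (i + 1)) := by
        have : 2 ^ (k + 1) = 2 ^ k * 2 := pow_succ 2 k
        omega
      rw [he, pow_add, mul_assoc]
    rw [h1, ih]
    have hk1 : 1 ≤ 2 ^ k := Nat.one_le_two_pow
    have he2 : 2 ^ (k + 1) - 1 = 2 ^ k + (2 ^ k - 1) := by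
      have : 2 ^ (k + 1) = 2 ^ k * 2 := pow_succ 2 k
      omega
    have he3 : (u ^ 2) ^ 2 ^ k = u ^ 2 ^ (k + 1) := by
      rw [← pow_mul, pow_succ, mul_comm]
    rw [he2, pow_add, he3, mul_pow]
    linear_combination (t ^ 2 ^ k * u ^ 2 ^ k) * h2

lemma evar_succ (n : ℕ) (i : Fin (numVars n)) : evar n (i.val + 1) = X (some i) := by
  unfold evar
  rw [dif_pos ⟨Nat.succ_pos _, i.isLt⟩]
  rfl

lemma evar_one (n : ℕ) : evar n 1 = X (some (i0 n)) := evar_succ n (i0 n)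

lemma evar_two (n : ℕ) (hn : 2 ≤ n) : evar n 2 = X (some (i1 n hn)) := evar_succ n (i1 n hn)

lemma phi_evar_one (n : ℕ) : phi n (evar n 1) = eps n 1 := by
  rw [evar_one, phi_some, genImage_some, if_pos (show (i0 n).val = 0 from rfl)]

lemma phi_evar_two (n : ℕ) (hn : 2 ≤ n) :
    phi n (evar n 2) = eps n 2 ^ 2 + eps n 1 * eps n 2 := by
  rw [evar_two n hn, phi_some, genImage_some,
    if_neg (show ¬ (i1 n hn).val = 0 by show ¬ (1 = 0); omega),
    if_pos (show (i1 n hn).val = 1 from rfl)]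

lemma phi_evar_ge (n : ℕ) (i : Fin (numVars n)) (hi : 2 ≤ i.val) :
    phi n (evar n (i.val + 1)) =
      eps n (i.val + 1) + eps n 1 ^ (2 * (i.val + 1) - 4) * eps n 2 := by
  rw [evar_succ, phi_some, genImage_some, if_neg (by omega), if_neg (by omega)]

lemma phi_xvar (n : ℕ) : phi n (xvar n) = eps n 1 ^ (n - 1) * eps n 2 := by
  unfold xvar
  rw [phi_none]
  rfl

lemma phi_sPoly (n : ℕ) (hn : 2 ≤ n) (j : ℕ) :
    phi n (sPoly n j) =
      eps n 2 ^ 2 ^ klog n j + eps n 1 ^ (2 ^ klog n j - 1) * eps n 2 := by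
  unfold sPoly
  rw [map_sum, ← telescope (two_eq_zero_P n) (eps n 1) (eps n 2) (klog n j)]
  apply Finset.sum_congr rfl
  intro i _
  rw [map_mul, map_pow, map_pow, phi_evar_one, phi_evar_two n hn]

lemma klog_spec (n j : ℕ) (hn : 2 ≤ n) (hj2 : 2 ≤ j) (hjs : j ≤ numVars n) :
    (2 * j - 3) * 2 ^ klog n j ≤ 2 * n - 1 ∧ 2 * n - 1 < (2 * j - 3) * 2 ^ (klog n j + 1) := by
  unfold klog
  unfold numVars at hjs
  have hd : 0 < 2 * j - 3 := by omega
  have hle : 2 * j - 3 ≤ 2 * n - 1 := by omega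
  have hx : (2 * n - 1) / (2 * j - 3) ≠ 0 := by
    have := Nat.div_pos hle hd
    omega
  constructor
  · have h1 := Nat.pow_log_le_self 2 hx
    have h2 := (Nat.le_div_iff_mul_le hd).mp h1
    have h3 := Nat.mul_comm (2 * j - 3) (2 ^ Nat.log 2 ((2 * n - 1) / (2 * j - 3)))
    rw [h3]
    exact h2
  · have h1 := Nat.lt_pow_succ_log_self (by norm_num : 1 < 2) ((2 * n - 1) / (2 * j - 3))
    have h2 := (Nat.div_lt_iff_lt_mul hd).mp h1
    have h3 := Nat.mul_comm (2 * j - 3) (2 ^ (Nat.log 2 ((2 * n - 1) / (2 * j - 3)) + 1))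
    rw [h3]
    exact h2

lemma klog_two_pos (n : ℕ) (hn : 2 ≤ n) : 1 ≤ klog n 2 := by
  have hs := (klog_spec n 2 hn le_rfl (numVars_ge_two n hn)).2
  by_contra h
  have h0 : klog n 2 = 0 := by omega
  rw [h0] at hs
  norm_num at hs
  omega

lemma le_two_pow_klog_two (n : ℕ) (hn : 2 ≤ n) : n ≤ 2 ^ klog n 2 := by
  have hs := (klog_spec n 2 hn le_rfl (numVars_ge_two n hn)).2
  have : 2 ^ (klog n 2 + 1) = 2 ^ klog n 2 * 2 := pow_succ 2 _
  rw [this] at hs
  omega

lemma eps_pow_bound (n : ℕ) (i : Fin (numVars n)) : eps n (i.val + 1) ^ bound n i = 0 := by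
  rw [eps_eq, ← map_pow]
  exact Ideal.Quotient.eq_zero_iff_mem.mpr (Ideal.subset_span ⟨i, rfl⟩)

lemma eps_pow_klog (n : ℕ) (i : Fin (numVars n)) (hi : 1 ≤ i.val) :
    eps n (i.val + 1) ^ 2 ^ klog n (i.val + 1) = 0 := by
  have h := eps_pow_bound n i
  unfold bound at h
  rw [if_neg (by omega)] at h
  exact h

lemma phi_hrel_two (n : ℕ) (hn : 2 ≤ n) : phi n (hrel n 2) = 0 := by
  have hk : n ≤ 2 ^ klog n 2 := le_two_pow_klog_two n hn
  unfold hrel
  rw [if_pos rfl, map_add, map_mul, map_pow, phi_evar_one, phi_xvar, phi_sPoly n hn]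
  have hu : eps n 2 ^ 2 ^ klog n 2 = 0 := eps_pow_klog n (i1 n hn) le_rfl
  rw [hu, zero_add, ← mul_assoc, ← pow_add,
    show 2 ^ klog n 2 - n + (n - 1) = 2 ^ klog n 2 - 1 by omega]
  exact add_self_P n _

lemma phi_hrel_ge (n : ℕ) (hn : 2 ≤ n) (i : Fin (numVars n)) (hi : 2 ≤ i.val) :
    phi n (hrel n (i.val + 1)) = 0 := by
  have hs := (klog_spec n (i.val + 1) hn (by omega) i.isLt).2
  have hkp : 1 ≤ 2 ^ klog n (i.val + 1) := Nat.one_le_two_pow
  have hsplit : (2 * (i.val + 1) - 3) * 2 ^ klog n (i.val + 1) =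
      (2 * (i.val + 1) - 4) * 2 ^ klog n (i.val + 1) + 2 ^ klog n (i.val + 1) := by
    have : 2 * (i.val + 1) - 3 = (2 * (i.val + 1) - 4) + 1 := by omega
    rw [this, add_mul, one_mul]
  have h1 : n ≤ (2 * (i.val + 1) - 3) * 2 ^ klog n (i.val + 1) := by
    have h2 : 2 ^ (klog n (i.val + 1) + 1) = 2 ^ klog n (i.val + 1) * 2 := pow_succ 2 _
    rw [h2, ← mul_assoc] at hs
    generalize (2 * (i.val + 1) - 3) * 2 ^ klog n (i.val + 1) = q at hs ⊢
    omega
  unfold hrel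
  rw [if_neg (by omega), if_pos ⟨by omega, i.isLt⟩]
  rw [map_add, map_add, map_mul, map_mul, map_pow, map_pow, map_pow, phi_evar_one, phi_xvar,
    phi_sPoly n hn, phi_evar_ge n i hi, add_pow_two_pow (two_eq_zero_P n),
    eps_pow_klog n i (by omega), zero_add, mul_pow, ← pow_mul]
  have e1 : eps n 1 ^ ((2 * (i.val + 1) - 3) * 2 ^ klog n (i.val + 1) - n) * eps n 1 ^ (n - 1) =
      eps n 1 ^ ((2 * (i.val + 1) - 3) * 2 ^ klog n (i.val + 1) - 1) := by
    rw [← pow_add]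
    congr 1
    omega
  have e2 : eps n 1 ^ ((2 * (i.val + 1) - 4) * 2 ^ klog n (i.val + 1)) *
      eps n 1 ^ (2 ^ klog n (i.val + 1) - 1) =
      eps n 1 ^ ((2 * (i.val + 1) - 3) * 2 ^ klog n (i.val + 1) - 1) := by
    rw [← pow_add]
    congr 1
    rw [hsplit]
    omega
  linear_combination (eps n 2) * e1 + (eps n 2) * e2 +
    (eps n 1 ^ ((2 * (i.val + 1) - 4) * 2 ^ klog n (i.val + 1)) * eps n 2 ^ 2 ^ klog n (i.val + 1) +
      eps n 2 * eps n 1 ^ ((2 * (i.val + 1) - 3) * 2 ^ klog n (i.val + 1) - 1)) * two_eq_zero_P n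

theorem presIdeal_le_ker (n : ℕ) (hn : 2 ≤ n) : presIdeal n ≤ RingHom.ker (phi n) := by
  unfold presIdeal
  rw [Ideal.span_le]
  rintro q (hq | ⟨i, rfl⟩)
  · simp only [Set.mem_insert_iff, Set.mem_singleton_iff] at hq
    rcases hq with rfl | rfl | rfl
    · rw [SetLike.mem_coe, RingHom.mem_ker, map_pow, phi_evar_one, eps_one_pow]
    · rw [SetLike.mem_coe, RingHom.mem_ker, map_mul, phi_evar_one, phi_xvar, ← mul_assoc,
        ← pow_succ', show n - 1 + 1 = n by omega, eps_one_pow, zero_mul]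
    · rw [SetLike.mem_coe, RingHom.mem_ker, map_pow, phi_xvar, mul_pow, ← pow_mul,
        show (n - 1) * 2 = n + (n - 2) by omega, pow_add, eps_one_pow, zero_mul, zero_mul]
  · rw [SetLike.mem_coe, RingHom.mem_ker]
    show phi n (hrel n (i.val + 1)) = 0
    by_cases h0 : i.val = 0
    · have : hrel n (i.val + 1) = 0 := by
        unfold hrel
        rw [if_neg (by omega), if_neg (by omega)]
      rw [this, map_zero]
    by_cases h1 : i.val = 1
    · have : i.val + 1 = 2 := by omega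
      rw [this]
      exact phi_hrel_two n hn
    · exact phi_hrel_ge n hn i (by omega)

end Groth.Agent.Lib.Helper6.QsChowLib
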