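import Mathlib
import Groth.Prelude.Def_W4c4chowquasisplitPn
import Groth.Agent.Lib.Helper6.QsChow.QC3

/-!
# Normal monomials span `FreeE n` modulo `presIdeal n`
-/

set_option autoImplicit false
set_option linter.unusedSectionVars false
set_option linter.unusedVariables false
set_option linter.unusedSimpArgs false
set_option maxHeartbeats 400000

noncomputable section

namespace Groth.Agent.Lib.Helper6.QsChowLib

open MvPolynomial QsChow

/-- index type of the variables of `FreeE n` -/
abbrev Idx (n : ℕ) := Option (Fin (numVars n))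

/-- exponent bounds of normal monomials -/
def nb (n : ℕ) (i : Fin (numVars n)) : ℕ :=
  if i.val = 0 then n else if i.val = 1 then 2 ^ (klog n 2 - 1) else 2 ^ klog n (i.val + 1)

lemma nb_pos (n : ℕ) (hn : 2 ≤ n) (i : Fin (numVars n)) : 0 < nb n i := by
  unfold nb
  split_ifs
  · omega
  · exact Nat.pos_of_ne_zero (by positivity)
  · exact Nat.pos_of_ne_zero (by positivity)

lemma nb_i0 (n : ℕ) : nb n (i0 n) = n := by
  unfold nb
  rw [if_pos (show (i0 n).val = 0 from rfl)]

lemma nb_i1 (n : ℕ) (hn : 2 ≤ n) : nb n (i1 n hn) = 2 ^ (klog n 2 - 1) := by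
  unfold nb
  rw [if_neg (show ¬ (i1 n hn).val = 0 by show ¬ (1 = 0); omega),
    if_pos (show (i1 n hn).val = 1 from rfl)]

lemma nb_ge (n : ℕ) (i : Fin (numVars n)) (hi : 2 ≤ i.val) : nb n i = 2 ^ klog n (i.val + 1) := by
  unfold nb
  rw [if_neg (by omega), if_neg (by omega)]

lemma i1_ne_i0 (n : ℕ) (hn : 2 ≤ n) : i1 n hn ≠ i0 n := by
  intro h
  have h2 := congrArg Fin.val h
  exact absurd h2 (by show ¬ (1 = 0); omega)

/-- normal exponent vectors -/
def IsNF (n : ℕ) (m : Idx n →₀ ℕ) : Prop :=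
  (∀ i : Fin (numVars n), m (some i) < nb n i) ∧
    (m none = 0 ∨ (m none = 1 ∧ m (some (i0 n)) = 0))

/-- span of the normal monomials -/
def NSpan (n : ℕ) : Submodule (ZMod 2) (FreeE n) :=
  Submodule.span (ZMod 2) ((fun m => monomial m (1 : ZMod 2)) '' {m : Idx n →₀ ℕ | IsNF n m})

/-- normal monomials plus the ideal of relations -/
def TT (n : ℕ) : Submodule (ZMod 2) (FreeE n) :=
  NSpan n ⊔ (presIdeal n).restrictScalars (ZMod 2)

lemma mono_mem_TT_of_normal (n : ℕ) {m : Idx n →₀ ℕ} (h : IsNF n m) :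
    monomial m (1 : ZMod 2) ∈ TT n :=
  Submodule.mem_sup_left (Submodule.subset_span ⟨m, h, rfl⟩)

lemma mem_TT_of_mem_ideal (n : ℕ) {p : FreeE n} (h : p ∈ presIdeal n) : p ∈ TT n :=
  Submodule.mem_sup_right h

lemma mono_add (n : ℕ) (a b : Idx n →₀ ℕ) :
    (monomial (a + b) (1 : ZMod 2) : FreeE n) = monomial a 1 * monomial b 1 := by
  rw [monomial_mul, one_mul]

lemma mono_mem_ideal_of_le (n : ℕ) {g m : Idx n →₀ ℕ}
    (hg : monomial g (1 : ZMod 2) ∈ presIdeal n) (h : g ≤ m) :
    monomial m (1 : ZMod 2) ∈ presIdeal n := by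
  have h1 : (monomial m (1 : ZMod 2) : FreeE n) = monomial (m - g) 1 * monomial g 1 := by
    rw [monomial_mul, one_mul, tsub_add_cancel_of_le h]
  rw [h1]
  exact Ideal.mul_mem_left _ _ hg

lemma e1n_mem (n : ℕ) :
    monomial (Finsupp.single (some (i0 n)) n) (1 : ZMod 2) ∈ presIdeal n := by
  rw [← X_pow_eq_monomial, ← evar_one]
  exact Ideal.subset_span (Or.inl (Set.mem_insert _ _))

lemma e1x_mem (n : ℕ) :
    monomial (Finsupp.single (some (i0 n)) 1 + Finsupp.single none 1) (1 : ZMod 2) ∈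
      presIdeal n := by
  have h1 : (monomial (Finsupp.single (some (i0 n)) 1 + Finsupp.single none 1) (1 : ZMod 2) :
      FreeE n) = evar n 1 * xvar n := by
    rw [evar_one, mono_add]
    rfl
  rw [h1]
  exact Ideal.subset_span (Or.inl (Set.mem_insert_of_mem _ (Set.mem_insert _ _)))

lemma xx_mem (n : ℕ) : monomial (Finsupp.single none 2) (1 : ZMod 2) ∈ presIdeal n := by
  rw [← X_pow_eq_monomial]
  exact Ideal.subset_span
    (Or.inl (Set.mem_insert_of_mem _ (Set.mem_insert_of_mem _ rfl)))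

lemma hrel_mem (n : ℕ) (i : Fin (numVars n)) : hrel n (i.val + 1) ∈ presIdeal n :=
  Ideal.subset_span (Or.inr ⟨i, rfl⟩)

lemma sgl_none_some (n : ℕ) (k : ℕ) (i : Fin (numVars n)) :
    (Finsupp.single (none : Idx n) k) (some i) = 0 :=
  Finsupp.single_eq_of_ne (by simp)

lemma sgl_some_none (n : ℕ) (k : ℕ) (i : Fin (numVars n)) :
    (Finsupp.single (some i : Idx n) k) none = 0 :=
  Finsupp.single_eq_of_ne (by simp)

lemma sgl_some_ne (n : ℕ) (k : ℕ) (i j : Fin (numVars n)) (h : j ≠ i) :
    (Finsupp.single (some i : Idx n) k) (some j) = 0 :=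
  Finsupp.single_eq_of_ne (by simpa using h)

lemma sgl_some_same (n : ℕ) (k : ℕ) (i : Fin (numVars n)) :
    (Finsupp.single (some i : Idx n) k) (some i) = k :=
  Finsupp.single_eq_same

lemma sgl_none_none (n : ℕ) (k : ℕ) :
    (Finsupp.single (none : Idx n) k) none = k :=
  Finsupp.single_eq_same

/-- a monomial all of whose `e_j`-exponents (`j ≥ 2`) are within bounds is normal or a relation -/
lemma good_of_semi (n : ℕ) (hn : 2 ≤ n) (m : Idx n →₀ ℕ)
    (h : ∀ i : Fin (numVars n), i ≠ i0 n → m (some i) < nb n i) :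
    monomial m (1 : ZMod 2) ∈ TT n := by
  by_cases hx0 : m none = 0
  · by_cases ha : m (some (i0 n)) < n
    · apply mono_mem_TT_of_normal
      refine ⟨fun i => ?_, Or.inl hx0⟩
      by_cases hi : i = i0 n
      · subst hi
        rw [nb_i0]
        exact ha
      · exact h i hi
    · apply mem_TT_of_mem_ideal
      exact mono_mem_ideal_of_le n (e1n_mem n) (Finsupp.single_le_iff.mpr (by omega))
  · by_cases hx1 : m none = 1
    · by_cases ha : m (some (i0 n)) = 0
      · apply mono_mem_TT_of_normal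
        refine ⟨fun i => ?_, Or.inr ⟨hx1, ha⟩⟩
        by_cases hi : i = i0 n
        · subst hi
          rw [nb_i0, ha]
          omega
        · exact h i hi
      · apply mem_TT_of_mem_ideal
        refine mono_mem_ideal_of_le n (e1x_mem n) ?_
        intro v
        rw [Finsupp.add_apply]
        rcases v with _ | j
        · rw [sgl_some_none, sgl_none_none, zero_add, hx1]
        · rw [sgl_none_some, add_zero]
          by_cases hj : j = i0 n
          · subst hj
            rw [sgl_some_same]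
            omega
          · rw [sgl_some_ne n 1 (i0 n) j hj]
            exact Nat.zero_le _
    · apply mem_TT_of_mem_ideal
      exact mono_mem_ideal_of_le n (xx_mem n) (Finsupp.single_le_iff.mpr (by omega))

lemma X_mul_mono (n : ℕ) (m : Idx n →₀ ℕ) (v : Idx n) :
    (X v : FreeE n) * monomial m 1 = monomial (m + Finsupp.single v 1) 1 := by
  rw [mono_add, mul_comm]
  rfl

lemma mul_mem_TT (n : ℕ) (v : Idx n)
    (hv : ∀ m : Idx n →₀ ℕ, IsNF n m → monomial (m + Finsupp.single v 1) (1 : ZMod 2) ∈ TT n)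
    (p : FreeE n) (hp : p ∈ TT n) : X v * p ∈ TT n := by
  have hle : TT n ≤ (TT n).comap (LinearMap.mulLeft (ZMod 2) (X v : FreeE n)) := by
    apply sup_le
    · apply Submodule.span_le.mpr
      rintro _ ⟨m, hm, rfl⟩
      show (X v : FreeE n) * monomial m 1 ∈ TT n
      rw [X_mul_mono]
      exact hv m hm
    · intro q hq
      show (X v : FreeE n) * q ∈ TT n
      exact mem_TT_of_mem_ideal n (Ideal.mul_mem_left _ _ hq)
  exact hle hp

lemma step_x (n : ℕ) (hn : 2 ≤ n) (m : Idx n →₀ ℕ) (hN : IsNF n m) :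
    monomial (m + Finsupp.single none 1) (1 : ZMod 2) ∈ TT n := by
  apply good_of_semi n hn
  intro i hi
  rw [Finsupp.add_apply, sgl_none_some, add_zero]
  exact hN.1 i

lemma step_e1 (n : ℕ) (hn : 2 ≤ n) (m : Idx n →₀ ℕ) (hN : IsNF n m) :
    monomial (m + Finsupp.single (some (i0 n)) 1) (1 : ZMod 2) ∈ TT n := by
  apply good_of_semi n hn
  intro i hi
  rw [Finsupp.add_apply, sgl_some_ne n 1 (i0 n) i hi, add_zero]
  exact hN.1 i

lemma two_eq_zero_E (n : ℕ) : (2 : FreeE n) = 0 := by
  have h : (1 : FreeE n) + 1 = 0 := by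
    rw [← two_smul (ZMod 2) (1 : FreeE n)]
    have h2 : (2 : ZMod 2) = 0 := by decide
    rw [h2, zero_smul]
  rw [one_add_one_eq_two] at h
  exact h

lemma e2_pow_eq (n : ℕ) (hn : 2 ≤ n) :
    (X (some (i1 n hn)) : FreeE n) ^ 2 ^ (klog n 2 - 1) =
      hrel n 2 + (evar n 1 ^ (2 ^ klog n 2 - n) * xvar n +
        ∑ t ∈ Finset.range (klog n 2 - 1),
          evar n 1 ^ (2 ^ klog n 2 - 2 ^ (t + 1)) * evar n 2 ^ 2 ^ t) := by
  have hk : 1 ≤ klog n 2 := klog_two_pos n hn
  obtain ⟨k', hk'⟩ : ∃ k', klog n 2 = k' + 1 := ⟨klog n 2 - 1, by omega⟩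
  unfold hrel sPoly
  rw [if_pos rfl, hk', Finset.sum_range_succ, Nat.add_sub_cancel, Nat.sub_self, pow_zero, one_mul,
    ← evar_two n hn]
  linear_combination (-(evar n 1 ^ (2 ^ (k' + 1) - n) * xvar n +
        ∑ t ∈ Finset.range k',
          evar n 1 ^ (2 ^ (k' + 1) - 2 ^ (t + 1)) * evar n 2 ^ 2 ^ t)) * two_eq_zero_E n

lemma ej_pow_eq (n : ℕ) (i : Fin (numVars n)) (hi : 2 ≤ i.val) :
    (X (some i) : FreeE n) ^ 2 ^ klog n (i.val + 1) =
      hrel n (i.val + 1) +
        (evar n 1 ^ ((2 * (i.val + 1) - 3) * 2 ^ klog n (i.val + 1) - n) * xvar n +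
          evar n 1 ^ ((2 * (i.val + 1) - 4) * 2 ^ klog n (i.val + 1)) * sPoly n (i.val + 1)) := by
  unfold hrel
  rw [if_neg (by omega), if_pos ⟨by omega, i.isLt⟩, evar_succ n i]
  linear_combination
    (-(evar n 1 ^ ((2 * (i.val + 1) - 3) * 2 ^ klog n (i.val + 1) - n) * xvar n +
      evar n 1 ^ ((2 * (i.val + 1) - 4) * 2 ^ klog n (i.val + 1)) * sPoly n (i.val + 1))) *
      two_eq_zero_E n

lemma mono_mul_e1_x (n : ℕ) (m₀ : Idx n →₀ ℕ) (c : ℕ) :
    (monomial m₀ (1 : ZMod 2) : FreeE n) * (evar n 1 ^ c * xvar n) =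
      monomial (m₀ + (Finsupp.single (some (i0 n)) c + Finsupp.single none 1)) 1 := by
  rw [mono_add, mono_add, evar_one, X_pow_eq_monomial]
  rfl

lemma mono_mul_e1_e2 (n : ℕ) (hn : 2 ≤ n) (m₀ : Idx n →₀ ℕ) (c r : ℕ) :
    (monomial m₀ (1 : ZMod 2) : FreeE n) * (evar n 1 ^ c * evar n 2 ^ r) =
      monomial (m₀ + (Finsupp.single (some (i0 n)) c + Finsupp.single (some (i1 n hn)) r)) 1 := by
  rw [mono_add, mono_add, evar_one, evar_two n hn, X_pow_eq_monomial, X_pow_eq_monomial]

lemma mono_mul_e1 (n : ℕ) (m₀ : Idx n →₀ ℕ) (c : ℕ) :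
    (monomial m₀ (1 : ZMod 2) : FreeE n) * evar n 1 ^ c =
      monomial (m₀ + Finsupp.single (some (i0 n)) c) 1 := by
  rw [mono_add, evar_one, X_pow_eq_monomial]

lemma add_single_eq (n : ℕ) (m : Idx n →₀ ℕ) (v : Idx n) (b : ℕ) (hb : m v + 1 = b) :
    m + Finsupp.single v 1 = Finsupp.erase v m + Finsupp.single v b := by
  conv_lhs => rw [← Finsupp.erase_add_single v m]
  rw [add_assoc, ← Finsupp.single_add, hb]

lemma step_e2 (n : ℕ) (hn : 2 ≤ n) (m : Idx n →₀ ℕ) (hN : IsNF n m) :
    monomial (m + Finsupp.single (some (i1 n hn)) 1) (1 : ZMod 2) ∈ TT n := by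
  have h01 := i1_ne_i0 n hn
  by_cases hlt : m (some (i1 n hn)) + 1 < nb n (i1 n hn)
  · apply good_of_semi n hn
    intro i hi
    rw [Finsupp.add_apply]
    by_cases h1 : i = i1 n hn
    · subst h1
      rw [sgl_some_same]
      exact hlt
    · rw [sgl_some_ne n 1 (i1 n hn) i h1, add_zero]
      exact hN.1 i
  · have hfull : m (some (i1 n hn)) + 1 = nb n (i1 n hn) := by
      have := hN.1 (i1 n hn)
      omega
    rw [add_single_eq n m (some (i1 n hn)) _ hfull, mono_add, ← X_pow_eq_monomial, nb_i1,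
      e2_pow_eq n hn, mul_add, mul_add, Finset.mul_sum]
    refine Submodule.add_mem _ ?_ (Submodule.add_mem _ ?_ (Submodule.sum_mem _ fun t ht => ?_))
    · exact mem_TT_of_mem_ideal n (Ideal.mul_mem_left _ _ (hrel_mem n (i1 n hn)))
    · rw [mono_mul_e1_x]
      apply good_of_semi n hn
      intro i hi
      rw [Finsupp.add_apply, Finsupp.add_apply, sgl_some_ne n _ (i0 n) i hi, sgl_none_some,
        add_zero, add_zero]
      by_cases h1 : i = i1 n hn
      · subst h1
        rw [Finsupp.erase_same]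
        exact nb_pos n hn _
      · rw [Finsupp.erase_ne (by simpa using h1)]
        exact hN.1 i
    · rw [mono_mul_e1_e2 n hn]
      apply good_of_semi n hn
      intro i hi
      rw [Finsupp.add_apply, Finsupp.add_apply, sgl_some_ne n _ (i0 n) i hi, zero_add]
      by_cases h1 : i = i1 n hn
      · subst h1
        rw [Finsupp.erase_same, sgl_some_same, zero_add, nb_i1]
        exact Nat.pow_lt_pow_right (by norm_num) (Finset.mem_range.mp ht)
      · rw [Finsupp.erase_ne (by simpa using h1), sgl_some_ne n _ (i1 n hn) i h1, add_zero]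
        exact hN.1 i

lemma mulX_e2 (n : ℕ) (hn : 2 ≤ n) (p : FreeE n) (hp : p ∈ TT n) :
    X (some (i1 n hn)) * p ∈ TT n :=
  mul_mem_TT n _ (fun m hm => step_e2 n hn m hm) p hp

lemma pow_e2_mul (n : ℕ) (hn : 2 ≤ n) (r : ℕ) (p : FreeE n) (hp : p ∈ TT n) :
    X (some (i1 n hn)) ^ r * p ∈ TT n := by
  induction r with
  | zero =>
    rw [pow_zero, one_mul]
    exact hp
  | succ r ih =>
    rw [pow_succ', mul_assoc]
    exact mulX_e2 n hn _ ih

lemma step_ej (n : ℕ) (hn : 2 ≤ n) (i : Fin (numVars n)) (hi2 : 2 ≤ i.val)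
    (m : Idx n →₀ ℕ) (hN : IsNF n m) :
    monomial (m + Finsupp.single (some i) 1) (1 : ZMod 2) ∈ TT n := by
  have hi0 : i ≠ i0 n := by
    intro h
    have h2 := congrArg Fin.val h
    have h3 : (i0 n).val = 0 := rfl
    omega
  by_cases hlt : m (some i) + 1 < nb n i
  · apply good_of_semi n hn
    intro i' hi'
    rw [Finsupp.add_apply]
    by_cases h1 : i' = i
    · subst h1
      rw [sgl_some_same]
      exact hlt
    · rw [sgl_some_ne n 1 i i' h1, add_zero]
      exact hN.1 i'
  · have hfull : m (some i) + 1 = nb n i := by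
      have := hN.1 i
      omega
    rw [add_single_eq n m (some i) _ hfull, mono_add, ← X_pow_eq_monomial, nb_ge n i hi2,
      ej_pow_eq n i hi2, mul_add, mul_add]
    refine Submodule.add_mem _ ?_ (Submodule.add_mem _ ?_ ?_)
    · exact mem_TT_of_mem_ideal n (Ideal.mul_mem_left _ _ (hrel_mem n i))
    · rw [mono_mul_e1_x]
      apply good_of_semi n hn
      intro i' hi'
      rw [Finsupp.add_apply, Finsupp.add_apply, sgl_some_ne n _ (i0 n) i' hi', sgl_none_some,
        add_zero, add_zero]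
      by_cases h1 : i' = i
      · subst h1
        rw [Finsupp.erase_same]
        exact nb_pos n hn _
      · rw [Finsupp.erase_ne (by simpa using h1)]
        exact hN.1 i'
    · unfold sPoly
      rw [Finset.mul_sum, Finset.mul_sum]
      refine Submodule.sum_mem _ fun t ht => ?_
      have hre : (monomial (Finsupp.erase (some i) m) (1 : ZMod 2) : FreeE n) *
          (evar n 1 ^ ((2 * (i.val + 1) - 4) * 2 ^ klog n (i.val + 1)) *
            (evar n 1 ^ (2 ^ klog n (i.val + 1) - 2 ^ (t + 1)) * evar n 2 ^ 2 ^ t)) =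
          X (some (i1 n hn)) ^ 2 ^ t *
            monomial (Finsupp.erase (some i) m + Finsupp.single (some (i0 n))
              ((2 * (i.val + 1) - 4) * 2 ^ klog n (i.val + 1) +
                (2 ^ klog n (i.val + 1) - 2 ^ (t + 1)))) 1 := by
        rw [← mono_mul_e1, evar_two n hn, pow_add]
        ring
      rw [hre]
      apply pow_e2_mul
      apply good_of_semi n hn
      intro i' hi'
      rw [Finsupp.add_apply, sgl_some_ne n _ (i0 n) i' hi', add_zero]
      by_cases h1 : i' = i
      · subst h1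
        rw [Finsupp.erase_same]
        exact nb_pos n hn _
      · rw [Finsupp.erase_ne (by simpa using h1)]
        exact hN.1 i'

theorem all_mem_TT (n : ℕ) (hn : 2 ≤ n) (p : FreeE n) : p ∈ TT n := by
  induction p using MvPolynomial.induction_on with
  | C a =>
    have h0 : IsNF n (0 : Idx n →₀ ℕ) :=
      ⟨fun i => by rw [Finsupp.zero_apply]; exact nb_pos n hn i, Or.inl rfl⟩
    have h1 : (C a : FreeE n) = a • monomial 0 1 := by
      rw [smul_monomial, smul_eq_mul, mul_one]
      rfl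
    rw [h1]
    exact Submodule.smul_mem _ _ (mono_mem_TT_of_normal n h0)
  | add p q hp hq => exact Submodule.add_mem _ hp hq
  | mul_X p v hp =>
    rw [mul_comm]
    rcases v with _ | i
    · exact mul_mem_TT n none (fun m hm => step_x n hn m hm) p hp
    · by_cases h0 : i = i0 n
      · subst h0
        exact mul_mem_TT n _ (fun m hm => step_e1 n hn m hm) p hp
      · by_cases h1 : i = i1 n hn
        · subst h1
          exact mulX_e2 n hn p hp
        · have h2 : 2 ≤ i.val := by
            by_contra hlt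
            have h3 : i.val = 0 ∨ i.val = 1 := by omega
            rcases h3 with h | h
            · exact h0 (Fin.ext h)
            · exact h1 (Fin.ext h)
          exact mul_mem_TT n _ (fun m hm => step_ej n hn i h2 m hm) p hp

end Groth.Agent.Lib.Helper6.QsChowLib
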