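import Mathlib
import Groth.Prelude.Def_W4c4chowquasisplitPn
import Groth.Agent.Lib.Helper6.QsChow.QC4

/-!
# Images of the normal monomials are linearly independent; `ker (phi n) = presIdeal n`
-/

set_option autoImplicit false
set_option linter.unusedSectionVars false
set_option linter.unusedVariables false
set_option linter.unusedSimpArgs false
set_option maxHeartbeats 400000

noncomputable section

namespace Groth.Agent.Lib.Helper6.QsChowLib

open MvPolynomial QsChow

/-- polynomial lifts of the images of the generators -/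
def genLift (n : ℕ) (hn : 2 ≤ n) : Idx n → FreeP n
  | none => X (i0 n) ^ (n - 1) * X (i1 n hn)
  | some i =>
    if i.val = 0 then X (i0 n)
    else if i.val = 1 then X (i1 n hn) ^ 2 + X (i0 n) * X (i1 n hn)
    else X i + X (i0 n) ^ (2 * (i.val + 1) - 4) * X (i1 n hn)

lemma genLift_none (n : ℕ) (hn : 2 ≤ n) :
    genLift n hn none = X (i0 n) ^ (n - 1) * X (i1 n hn) := rfl

lemma genLift_some (n : ℕ) (hn : 2 ≤ n) (i : Fin (numVars n)) :
    genLift n hn (some i) = if i.val = 0 then X (i0 n)
    else if i.val = 1 then X (i1 n hn) ^ 2 + X (i0 n) * X (i1 n hn)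
    else X i + X (i0 n) ^ (2 * (i.val + 1) - 4) * X (i1 n hn) := rfl

lemma mk_genLift (n : ℕ) (hn : 2 ≤ n) (v : Idx n) :
    Ideal.Quotient.mk (truncIdeal n) (genLift n hn v) = genImage n v := by
  rcases v with _ | i
  · rw [genLift_none]
    show _ = eps n 1 ^ (n - 1) * eps n 2
    rw [map_mul, map_pow, ← eps_one, ← eps_two n hn]
  · rw [genLift_some, genImage_some]
    split_ifs with h0 h1
    · rw [← eps_one]
    · rw [map_add, map_pow, map_mul, ← eps_one, ← eps_two n hn]
    · rw [map_add, map_mul, map_pow, ← eps_one, ← eps_two n hn, ← eps_eq]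

lemma mk_aeval_genLift (n : ℕ) (hn : 2 ≤ n) (q : FreeE n) :
    Ideal.Quotient.mk (truncIdeal n) (aeval (genLift n hn) q) = phi n q := by
  have h : (Ideal.Quotient.mkₐ (ZMod 2) (truncIdeal n)).comp (aeval (genLift n hn)) = phi n := by
    apply MvPolynomial.algHom_ext
    intro v
    rw [AlgHom.comp_apply, aeval_X]
    show Ideal.Quotient.mk _ (genLift n hn v) = phi n (X v)
    rw [mk_genLift]
    unfold phi
    rw [aeval_X]
  exact DFunLike.congr_fun h q

/-- the `ε₁`-weight of a monomial of `FreeE n` -/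
def wt (n : ℕ) (m : Idx n →₀ ℕ) : ℕ := (n - 1) * m none + m (some (i0 n))

/-- exponent of the leading monomial -/
def leadFun (n : ℕ) (hn : 2 ≤ n) (m : Idx n →₀ ℕ) (i : Fin (numVars n)) : ℕ :=
  if i = i0 n then wt n m
  else if i = i1 n hn then m none + 2 * m (some (i1 n hn)) else m (some i)

/-- the leading monomial -/
def lead (n : ℕ) (hn : 2 ≤ n) (m : Idx n →₀ ℕ) : Fin (numVars n) →₀ ℕ :=
  Finsupp.equivFunOnFinite.symm (leadFun n hn m)

lemma lead_apply (n : ℕ) (hn : 2 ≤ n) (m : Idx n →₀ ℕ) (i : Fin (numVars n)) :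
    lead n hn m i = leadFun n hn m i :=
  Finsupp.equivFunOnFinite_symm_apply_apply _ _

lemma wt_add (n : ℕ) (f g : Idx n →₀ ℕ) : wt n (f + g) = wt n f + wt n g := by
  unfold wt
  rw [Finsupp.add_apply, Finsupp.add_apply]
  ring

lemma lead_add (n : ℕ) (hn : 2 ≤ n) (f g : Idx n →₀ ℕ) :
    lead n hn (f + g) = lead n hn f + lead n hn g := by
  ext i
  rw [Finsupp.add_apply, lead_apply, lead_apply, lead_apply]
  unfold leadFun
  split_ifs
  · exact wt_add n f g
  · rw [Finsupp.add_apply, Finsupp.add_apply]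
    ring
  · rw [Finsupp.add_apply]

lemma lead_zero (n : ℕ) (hn : 2 ≤ n) : lead n hn 0 = 0 := by
  ext i
  rw [lead_apply]
  unfold leadFun wt
  simp

lemma lead_i0 (n : ℕ) (hn : 2 ≤ n) (m : Idx n →₀ ℕ) : lead n hn m (i0 n) = wt n m := by
  rw [lead_apply]
  unfold leadFun
  rw [if_pos rfl]

lemma lead_single_none (n : ℕ) (hn : 2 ≤ n) :
    lead n hn (Finsupp.single none 1) =
      Finsupp.single (i0 n) (n - 1) + Finsupp.single (i1 n hn) 1 := by
  ext i
  rw [lead_apply, Finsupp.add_apply]
  unfold leadFun wt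
  rw [sgl_none_none, sgl_none_some, sgl_none_some, sgl_none_some]
  by_cases h0 : i = i0 n
  · subst h0
    rw [if_pos rfl, Finsupp.single_eq_same, Finsupp.single_eq_of_ne (i1_ne_i0 n hn).symm]
    ring
  · rw [if_neg h0, Finsupp.single_eq_of_ne h0]
    by_cases h1 : i = i1 n hn
    · subst h1
      rw [if_pos rfl, Finsupp.single_eq_same]
    · rw [if_neg h1, Finsupp.single_eq_of_ne h1, add_zero]

lemma wt_single_other (n : ℕ) (i : Fin (numVars n)) (h : i ≠ i0 n) (k : ℕ) :
    wt n (Finsupp.single (some i) k) = 0 := by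
  unfold wt
  rw [sgl_some_none, sgl_some_ne n k i (i0 n) h.symm, mul_zero]

lemma lead_single_e1 (n : ℕ) (hn : 2 ≤ n) :
    lead n hn (Finsupp.single (some (i0 n)) 1) = Finsupp.single (i0 n) 1 := by
  ext i
  rw [lead_apply]
  unfold leadFun wt
  rw [sgl_some_none, sgl_some_same, sgl_some_ne n 1 (i0 n) (i1 n hn) (i1_ne_i0 n hn)]
  by_cases h0 : i = i0 n
  · subst h0
    rw [if_pos rfl, Finsupp.single_eq_same]
    ring
  · rw [if_neg h0, Finsupp.single_eq_of_ne h0, sgl_some_ne n 1 (i0 n) i h0]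
    split_ifs <;> rfl

lemma lead_single_e2 (n : ℕ) (hn : 2 ≤ n) :
    lead n hn (Finsupp.single (some (i1 n hn)) 1) = Finsupp.single (i1 n hn) 2 := by
  ext i
  rw [lead_apply]
  unfold leadFun
  rw [wt_single_other n (i1 n hn) (i1_ne_i0 n hn), sgl_some_none, sgl_some_same]
  by_cases h0 : i = i0 n
  · subst h0
    rw [if_pos rfl, Finsupp.single_eq_of_ne (i1_ne_i0 n hn).symm]
  · rw [if_neg h0]
    by_cases h1 : i = i1 n hn
    · subst h1
      rw [if_pos rfl, Finsupp.single_eq_same]
    · rw [if_neg h1, Finsupp.single_eq_of_ne h1, sgl_some_ne n 1 (i1 n hn) i h1]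

lemma lead_single_ei (n : ℕ) (hn : 2 ≤ n) (i : Fin (numVars n)) (hi0 : i ≠ i0 n)
    (hi1 : i ≠ i1 n hn) :
    lead n hn (Finsupp.single (some i) 1) = Finsupp.single i 1 := by
  ext k
  rw [lead_apply]
  unfold leadFun
  rw [wt_single_other n i hi0, sgl_some_none, sgl_some_ne n 1 i (i1 n hn) hi1.symm]
  by_cases h0 : k = i0 n
  · subst h0
    rw [if_pos rfl, Finsupp.single_eq_of_ne hi0.symm]
  · rw [if_neg h0]
    by_cases h1 : k = i1 n hn
    · subst h1
      rw [if_pos rfl, Finsupp.single_eq_of_ne hi1.symm, mul_zero, add_zero]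
    · rw [if_neg h1]
      by_cases h2 : k = i
      · subst h2
        rw [sgl_some_same, Finsupp.single_eq_same]
      · rw [sgl_some_ne n 1 i k h2, Finsupp.single_eq_of_ne h2]

lemma mono_lead_factor (n : ℕ) (hn : 2 ≤ n) (m : Idx n →₀ ℕ) :
    ∃ L : FreeP n, monomial (lead n hn m) (1 : ZMod 2) = X (i0 n) ^ wt n m * L := by
  refine ⟨monomial (lead n hn m - Finsupp.single (i0 n) (wt n m)) 1, ?_⟩
  rw [X_pow_eq_monomial, monomial_mul, one_mul, add_tsub_cancel_of_le]
  exact Finsupp.single_le_iff.mpr (le_of_eq (lead_i0 n hn m).symm)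

/-- the image of a monomial is its leading monomial up to higher `ε₁`-order -/
def C1prop (n : ℕ) (hn : 2 ≤ n) (m : Idx n →₀ ℕ) : Prop :=
  ∃ W : FreeP n, aeval (genLift n hn) (monomial m (1 : ZMod 2)) =
    monomial (lead n hn m) 1 + X (i0 n) ^ (wt n m + 1) * W

lemma C1_zero (n : ℕ) (hn : 2 ≤ n) : C1prop n hn 0 := by
  refine ⟨0, ?_⟩
  rw [lead_zero, mul_zero, add_zero]
  have h1 : (monomial (0 : Idx n →₀ ℕ) (1 : ZMod 2) : FreeE n) = 1 := rfl
  have h2 : (monomial (0 : Fin (numVars n) →₀ ℕ) (1 : ZMod 2) : FreeP n) = 1 := rfl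
  rw [h1, h2, map_one]

lemma C1_add (n : ℕ) (hn : 2 ≤ n) (f g : Idx n →₀ ℕ) (hf : C1prop n hn f)
    (hg : C1prop n hn g) : C1prop n hn (f + g) := by
  obtain ⟨Wf, hWf⟩ := hf
  obtain ⟨Wg, hWg⟩ := hg
  obtain ⟨Lf, hLf⟩ := mono_lead_factor n hn f
  obtain ⟨Lg, hLg⟩ := mono_lead_factor n hn g
  refine ⟨Lf * Wg + Wf * Lg + X (i0 n) * Wf * Wg, ?_⟩
  have h1 : (monomial (f + g) (1 : ZMod 2) : FreeE n) = monomial f 1 * monomial g 1 := by
    rw [monomial_mul, one_mul]
  have h2 : (monomial (lead n hn (f + g)) (1 : ZMod 2) : FreeP n) =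
      monomial (lead n hn f) 1 * monomial (lead n hn g) 1 := by
    rw [lead_add, monomial_mul, one_mul]
  rw [h1, map_mul, hWf, hWg, h2, wt_add, hLf, hLg]
  ring

lemma C1_single_one (n : ℕ) (hn : 2 ≤ n) (v : Idx n) : C1prop n hn (Finsupp.single v 1) := by
  have hX : (monomial (Finsupp.single v 1) (1 : ZMod 2) : FreeE n) = X v := rfl
  unfold C1prop
  rw [hX, aeval_X]
  rcases v with _ | i
  · refine ⟨0, ?_⟩
    rw [lead_single_none, mul_zero, add_zero, genLift_none, X_pow_eq_monomial]
    show monomial _ 1 * monomial _ 1 = _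
    rw [monomial_mul, one_mul]
  · by_cases h0 : i = i0 n
    · subst h0
      refine ⟨0, ?_⟩
      rw [lead_single_e1, mul_zero, add_zero, genLift_some,
        if_pos (show (i0 n).val = 0 from rfl)]
      rfl
    · by_cases h1 : i = i1 n hn
      · subst h1
        refine ⟨X (i1 n hn), ?_⟩
        rw [lead_single_e2, wt_single_other n (i1 n hn) (i1_ne_i0 n hn), genLift_some,
          if_neg (show ¬ (i1 n hn).val = 0 by show ¬ (1 = 0); omega),
          if_pos (show (i1 n hn).val = 1 from rfl), ← X_pow_eq_monomial, zero_add, pow_one]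
      · have h2 : 2 ≤ i.val := by
          by_contra hlt
          have h3 : i.val = 0 ∨ i.val = 1 := by omega
          rcases h3 with h | h
          · exact h0 (Fin.ext h)
          · exact h1 (Fin.ext h)
        refine ⟨X (i0 n) ^ (2 * (i.val + 1) - 5) * X (i1 n hn), ?_⟩
        rw [lead_single_ei n hn i h0 h1, wt_single_other n i h0, genLift_some,
          if_neg (by omega), if_neg (by omega), zero_add, pow_one, ← mul_assoc, ← pow_succ',
          show 2 * (i.val + 1) - 5 + 1 = 2 * (i.val + 1) - 4 by omega]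
        rfl

lemma C1_single (n : ℕ) (hn : 2 ≤ n) (v : Idx n) (k : ℕ) :
    C1prop n hn (Finsupp.single v k) := by
  induction k with
  | zero =>
    rw [Finsupp.single_zero]
    exact C1_zero n hn
  | succ k ih =>
    rw [Finsupp.single_add]
    exact C1_add n hn _ _ ih (C1_single_one n hn v)

lemma C1_all (n : ℕ) (hn : 2 ≤ n) (m : Idx n →₀ ℕ) : C1prop n hn m :=
  Finsupp.induction_linear m (C1_zero n hn) (fun f g hf hg => C1_add n hn f g hf hg)
    (fun a b => C1_single n hn a b)

lemma coeff_lead (n : ℕ) (hn : 2 ≤ n) (m m' : Idx n →₀ ℕ) (hle : wt n m ≤ wt n m') :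
    coeff (lead n hn m) (aeval (genLift n hn) (monomial m' (1 : ZMod 2))) =
      if lead n hn m' = lead n hn m then 1 else 0 := by
  obtain ⟨W, hW⟩ := C1_all n hn m'
  have hnot : ¬ (Finsupp.single (i0 n) (wt n m' + 1) ≤ lead n hn m) := by
    intro hcon
    have h1 := Finsupp.single_le_iff.mp hcon
    rw [lead_i0] at h1
    omega
  rw [hW, coeff_add, coeff_monomial, X_pow_eq_monomial, coeff_monomial_mul', if_neg hnot, add_zero]

lemma lead_lt_bound (n : ℕ) (hn : 2 ≤ n) (m : Idx n →₀ ℕ) (hN : IsNF n m)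
    (i : Fin (numVars n)) : lead n hn m i < bound n i := by
  rw [lead_apply]
  unfold leadFun
  by_cases h0 : i = i0 n
  · subst h0
    rw [if_pos rfl]
    unfold bound
    rw [if_pos (show (i0 n).val = 0 from rfl)]
    unfold wt
    have h1 := hN.1 (i0 n)
    rw [nb_i0] at h1
    rcases hN.2 with hx | ⟨hx, ha⟩
    · rw [hx, mul_zero, zero_add]
      exact h1
    · rw [hx, ha, mul_one, add_zero]
      omega
  · rw [if_neg h0]
    by_cases h1 : i = i1 n hn
    · subst h1
      rw [if_pos rfl]
      unfold bound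
      rw [if_neg (show ¬ (i1 n hn).val = 0 by show ¬ (1 = 0); omega)]
      have h2 := hN.1 (i1 n hn)
      rw [nb_i1] at h2
      have hk : 1 ≤ klog n 2 := klog_two_pos n hn
      have h3 : 2 ^ klog n 2 = 2 * 2 ^ (klog n 2 - 1) := by
        rw [← pow_succ']
        congr 1
        omega
      have hx : m none ≤ 1 := by
        rcases hN.2 with h | ⟨h, _⟩ <;> omega
      show m none + 2 * m (some (i1 n hn)) < 2 ^ klog n 2
      omega
    · rw [if_neg h1]
      have hv0 : i.val ≠ 0 := fun h => h0 (Fin.ext h)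
      have hv1 : i.val ≠ 1 := fun h => h1 (Fin.ext h)
      unfold bound
      rw [if_neg hv0]
      have h2 := hN.1 i
      rw [nb_ge n i (by omega)] at h2
      exact h2

lemma lead_inj (n : ℕ) (hn : 2 ≤ n) (m m' : Idx n →₀ ℕ) (hN : IsNF n m) (hN' : IsNF n m')
    (h : lead n hn m = lead n hn m') : m = m' := by
  have hf : ∀ i, leadFun n hn m i = leadFun n hn m' i := fun i => by
    rw [← lead_apply, ← lead_apply, h]
  have h01 := i1_ne_i0 n hn
  have a1 : m none ≤ 1 := by
    rcases hN.2 with h | ⟨h, _⟩ <;> omega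
  have a2 : m' none ≤ 1 := by
    rcases hN'.2 with h | ⟨h, _⟩ <;> omega
  have hx : m none = m' none := by
    have h1 := hf (i1 n hn)
    unfold leadFun at h1
    rw [if_neg h01, if_pos rfl, if_neg h01, if_pos rfl] at h1
    omega
  ext v
  rcases v with _ | i
  · exact hx
  · by_cases h0 : i = i0 n
    · subst h0
      have h1 := hf (i0 n)
      unfold leadFun wt at h1
      rw [if_pos rfl, if_pos rfl, hx] at h1
      exact Nat.add_left_cancel h1
    · by_cases h1 : i = i1 n hn
      · subst h1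
        have h2 := hf (i1 n hn)
        unfold leadFun at h2
        rw [if_neg h0, if_pos rfl, if_neg h0, if_pos rfl, hx] at h2
        omega
      · have h2 := hf i
        unfold leadFun at h2
        rw [if_neg h0, if_neg h1, if_neg h0, if_neg h1] at h2
        exact h2

lemma truncIdeal_eq (n : ℕ) :
    truncIdeal n = Ideal.span ((fun s => monomial s (1 : ZMod 2)) ''
      (Set.range fun i : Fin (numVars n) => Finsupp.single i (bound n i))) := by
  unfold truncIdeal
  congr 1
  ext q
  constructor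
  · rintro ⟨i, rfl⟩
    exact ⟨Finsupp.single i (bound n i), ⟨i, rfl⟩, X_pow_eq_monomial.symm⟩
  · rintro ⟨s, ⟨i, rfl⟩, rfl⟩
    exact ⟨i, X_pow_eq_monomial⟩

lemma support_normal_of_mem (n : ℕ) (q : FreeE n) (hq : q ∈ NSpan n) :
    ∀ m ∈ q.support, IsNF n m := by
  unfold NSpan at hq
  induction hq using Submodule.span_induction with
  | mem x hx =>
    obtain ⟨m, hm, rfl⟩ := hx
    intro m' hm'
    have h1 := support_monomial_subset hm'
    rw [Finset.mem_singleton] at h1
    rw [h1]
    exact hm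
  | zero =>
    intro m hm
    simp at hm
  | add x y _ _ hx hy =>
    intro m hm
    rcases Finset.mem_union.mp (support_add hm) with h | h
    · exact hx m h
    · exact hy m h
  | smul a x _ hx =>
    intro m hm
    exact hx m (support_smul hm)

theorem indep (n : ℕ) (hn : 2 ≤ n) (q : FreeE n) (hq : q ∈ NSpan n) (hker : phi n q = 0) :
    q = 0 := by
  by_contra hne
  have hsupp := support_normal_of_mem n q hq
  have hnonempty : q.support.Nonempty := by
    rw [Finset.nonempty_iff_ne_empty, Ne, support_eq_empty]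
    exact hne
  obtain ⟨m₀, hm₀, hmin⟩ := Finset.exists_min_image q.support (wt n) hnonempty
  have hFmem : aeval (genLift n hn) q ∈ truncIdeal n := by
    apply Ideal.Quotient.eq_zero_iff_mem.mp
    rw [mk_aeval_genLift, hker]
  have hsm : ∀ m : Idx n →₀ ℕ, (monomial m (coeff m q) : FreeE n) =
      coeff m q • monomial m (1 : ZMod 2) := by
    intro m
    rw [smul_monomial, smul_eq_mul, mul_one]
  have hcoef : coeff (lead n hn m₀) (aeval (genLift n hn) q) = coeff m₀ q := by
    conv_lhs => rw [as_sum q]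
    rw [map_sum, coeff_sum, Finset.sum_eq_single m₀]
    · rw [hsm, map_smul, coeff_smul, coeff_lead n hn m₀ m₀ le_rfl, if_pos rfl, smul_eq_mul,
        mul_one]
    · intro m hm hne'
      rw [hsm, map_smul, coeff_smul, coeff_lead n hn m₀ m (hmin m hm), if_neg, smul_zero]
      intro heq
      exact hne' (lead_inj n hn m m₀ (hsupp m hm) (hsupp m₀ hm₀) heq)
    · intro h
      exact absurd hm₀ h
  have hzero : coeff (lead n hn m₀) (aeval (genLift n hn) q) = 0 := by
    by_contra hc
    have hmem : lead n hn m₀ ∈ (aeval (genLift n hn) q).support := mem_support_iff.mpr hc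
    rw [truncIdeal_eq, mem_ideal_span_monomial_image] at hFmem
    obtain ⟨s, ⟨i, rfl⟩, hle⟩ := hFmem _ hmem
    have h1 := hle i
    rw [Finsupp.single_eq_same] at h1
    have h2 := lead_lt_bound n hn m₀ (hsupp m₀ hm₀) i
    omega
  rw [hzero] at hcoef
  exact (mem_support_iff.mp hm₀) hcoef.symm

theorem main17742 (n : ℕ) (hn : 2 ≤ n) : RingHom.ker (phi n) = presIdeal n := by
  apply le_antisymm
  · intro q hq
    have hT := all_mem_TT n hn q
    obtain ⟨qN, hqN, qI, hqI, rfl⟩ := Submodule.mem_sup.mp hT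
    have hqI' : qI ∈ presIdeal n := hqI
    have h1 : phi n qI = 0 := presIdeal_le_ker n hn hqI'
    have h2 : phi n qN = 0 := by
      have h3 := RingHom.mem_ker.mp hq
      rw [map_add, h1, add_zero] at h3
      exact h3
    rw [indep n hn qN hqN h2, zero_add]
    exact hqI'
  · exact presIdeal_le_ker n hn

end Groth.Agent.Lib.Helper6.QsChowLib
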