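import Mathlib
import Groth.Prelude.Def_W4c4chowquasisplitPn2
import Groth.Agent.Lib.Helper6.QsChow.QC5

/-!
# The odd case: `P^τ / ε₁ P^τ`
-/

set_option autoImplicit false
set_option linter.unusedSectionVars false
set_option linter.unusedVariables false
set_option linter.unusedSimpArgs false
set_option maxHeartbeats 400000

noncomputable section

namespace Groth.Agent.Lib.Helper6.QsChowLib

open MvPolynomial QsChow

lemma le_mul_klog (n : ℕ) (hn : 2 ≤ n) (i : Fin (numVars n)) (hi : 2 ≤ i.val) :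
    n ≤ (2 * (i.val + 1) - 3) * 2 ^ klog n (i.val + 1) := by
  have hs := (klog_spec n (i.val + 1) hn (by omega) i.isLt).2
  have h2 : 2 ^ (klog n (i.val + 1) + 1) = 2 ^ klog n (i.val + 1) * 2 := pow_succ 2 _
  rw [h2, ← mul_assoc] at hs
  generalize (2 * (i.val + 1) - 3) * 2 ^ klog n (i.val + 1) = q at hs ⊢
  omega

lemma lt_two_pow_klog_two_of_odd (n : ℕ) (hn : 2 ≤ n) (hodd : Odd n) : n < 2 ^ klog n 2 := by
  have h1 := le_two_pow_klog_two n hn
  have hk := klog_two_pos n hn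
  obtain ⟨r, hr⟩ := hodd
  obtain ⟨k', hk'⟩ : ∃ k', klog n 2 = k' + 1 := ⟨klog n 2 - 1, by omega⟩
  rw [hk', pow_succ] at h1 ⊢
  omega

lemma kprime_two_of_lt (n : ℕ) (hn : 2 ≤ n) (hlt : n < 2 ^ klog n 2) :
    kprime n 2 = klog n 2 - 1 := by
  unfold kprime
  rw [if_neg (by norm_num), if_pos rfl]
  have h2 := (klog_spec n 2 hn le_rfl (numVars_ge_two n hn)).1
  have hk := klog_two_pos n hn
  obtain ⟨k', hk'⟩ : ∃ k', klog n 2 = k' + 1 := ⟨klog n 2 - 1, by omega⟩
  rw [hk'] at hlt h2 ⊢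
  rw [Nat.add_sub_cancel]
  rw [pow_succ] at hlt h2
  apply (Nat.log_eq_iff (Or.inr ⟨by norm_num, by omega⟩)).mpr
  constructor
  · omega
  · rw [pow_succ]
    omega

lemma lt_mul_klog_of_odd (n : ℕ) (hn : 2 ≤ n) (hodd : Odd n) (i : Fin (numVars n))
    (hi : 2 ≤ i.val) : n < (2 * (i.val + 1) - 3) * 2 ^ klog n (i.val + 1) := by
  have hle := le_mul_klog n hn i hi
  have hne : n ≠ (2 * (i.val + 1) - 3) * 2 ^ klog n (i.val + 1) := by
    intro heq
    rcases Nat.eq_zero_or_pos (klog n (i.val + 1)) with hk0 | hkpos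
    · rw [hk0, pow_zero, mul_one] at heq
      have h3 := i.isLt
      unfold numVars at h3
      omega
    · obtain ⟨k', hk'⟩ : ∃ k', klog n (i.val + 1) = k' + 1 := ⟨klog n (i.val + 1) - 1, by omega⟩
      rw [hk', pow_succ, ← mul_assoc] at heq
      obtain ⟨r, hr⟩ := hodd
      generalize (2 * (i.val + 1) - 3) * 2 ^ k' = q at heq
      omega
  omega

lemma kprime_ge_of_lt (n : ℕ) (hn : 2 ≤ n) (i : Fin (numVars n)) (hi : 2 ≤ i.val)
    (hlt : n < (2 * (i.val + 1) - 3) * 2 ^ klog n (i.val + 1)) :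
    kprime n (i.val + 1) = klog n (i.val + 1) := by
  unfold kprime
  rw [if_neg (by omega), if_neg (by omega)]
  have hs := klog_spec n (i.val + 1) hn (by omega) i.isLt
  have hd : 0 < 2 * (i.val + 1) - 3 := by omega
  have h3 := i.isLt
  unfold numVars at h3
  have hdle : 2 * (i.val + 1) - 3 ≤ 2 * n := by omega
  apply (Nat.log_eq_iff (Or.inr ⟨by norm_num, (Nat.div_pos hdle hd).ne'⟩)).mpr
  constructor
  · rw [Nat.le_div_iff_mul_le hd]
    calc 2 ^ klog n (i.val + 1) * (2 * (i.val + 1) - 3)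
        = (2 * (i.val + 1) - 3) * 2 ^ klog n (i.val + 1) := Nat.mul_comm _ _
      _ ≤ 2 * n - 1 := hs.1
      _ ≤ 2 * n := Nat.sub_le _ _
  · rw [Nat.div_lt_iff_lt_mul hd]
    have e : 2 ^ (klog n (i.val + 1) + 1) * (2 * (i.val + 1) - 3) =
        2 * ((2 * (i.val + 1) - 3) * 2 ^ klog n (i.val + 1)) := by
      rw [pow_succ]
      ring
    rw [e]
    omega

lemma e1_pow_mul_mem (n : ℕ) (c : ℕ) (hc : 0 < c) (y : FreeE n) :
    evar n 1 ^ c * y ∈ Ideal.span ({evar n 1} : Set (FreeE n)) :=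
  Ideal.mul_mem_right _ _ (Ideal.pow_mem_of_mem _ (Ideal.subset_span (Set.mem_singleton _)) c hc)

lemma rest2_mem (n : ℕ) (hn : 2 ≤ n) (hlt : n < 2 ^ klog n 2) :
    (evar n 1 ^ (2 ^ klog n 2 - n) * xvar n +
        ∑ t ∈ Finset.range (klog n 2 - 1),
          evar n 1 ^ (2 ^ klog n 2 - 2 ^ (t + 1)) * evar n 2 ^ 2 ^ t) ∈
      Ideal.span ({evar n 1} : Set (FreeE n)) := by
  refine Ideal.add_mem _ (e1_pow_mul_mem n _ (by omega) _)
    (Ideal.sum_mem _ fun t ht => e1_pow_mul_mem n _ ?_ _)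
  have ht' : t + 1 < klog n 2 := by
    have := Finset.mem_range.mp ht
    omega
  have h2 : 2 ^ (t + 1) < 2 ^ klog n 2 := Nat.pow_lt_pow_right (by norm_num) ht'
  omega

lemma restj_mem (n : ℕ) (hn : 2 ≤ n) (i : Fin (numVars n)) (hi : 2 ≤ i.val)
    (hlt : n < (2 * (i.val + 1) - 3) * 2 ^ klog n (i.val + 1)) :
    (evar n 1 ^ ((2 * (i.val + 1) - 3) * 2 ^ klog n (i.val + 1) - n) * xvar n +
        evar n 1 ^ ((2 * (i.val + 1) - 4) * 2 ^ klog n (i.val + 1)) * sPoly n (i.val + 1)) ∈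
      Ideal.span ({evar n 1} : Set (FreeE n)) := by
  refine Ideal.add_mem _ (e1_pow_mul_mem n _ (by omega) _) (e1_pow_mul_mem n _ ?_ _)
  exact Nat.mul_pos (by omega) (Nat.pos_of_ne_zero (by positivity))

lemma oddIdeal_le (n : ℕ) (hn : 2 ≤ n) (hodd : Odd n) :
    oddIdeal n ≤ Ideal.span ({evar n 1} : Set (FreeE n)) ⊔ presIdeal n := by
  unfold oddIdeal
  rw [Ideal.span_le]
  rintro q (hq | ⟨i, rfl⟩)
  · simp only [Set.mem_insert_iff, Set.mem_singleton_iff] at hq
    rcases hq with rfl | rfl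
    · exact Ideal.mem_sup_left (Ideal.subset_span (Set.mem_singleton _))
    · exact Ideal.mem_sup_right (Ideal.subset_span
        (Or.inl (Set.mem_insert_of_mem _ (Set.mem_insert_of_mem _ rfl))))
  · show evar n (i.val + 1) ^ 2 ^ kprime n (i.val + 1) ∈ _
    by_cases h0 : i.val = 0
    · have h1 : evar n (i.val + 1) = evar n 1 := by rw [h0]
      rw [h1]
      exact Ideal.mem_sup_left (Ideal.pow_mem_of_mem _ (Ideal.subset_span (Set.mem_singleton _)) _
        (Nat.pos_of_ne_zero (by positivity)))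
    by_cases h1 : i.val = 1
    · have hi : i = i1 n hn := Fin.ext h1
      subst hi
      have hlt := lt_two_pow_klog_two_of_odd n hn hodd
      rw [show (i1 n hn).val + 1 = 2 from rfl, kprime_two_of_lt n hn hlt, evar_two n hn,
        e2_pow_eq n hn]
      exact Ideal.add_mem _ (Ideal.mem_sup_right (hrel_mem n (i1 n hn)))
        (Ideal.mem_sup_left (rest2_mem n hn hlt))
    · have hi : 2 ≤ i.val := by omega
      have hlt := lt_mul_klog_of_odd n hn hodd i hi
      rw [kprime_ge_of_lt n hn i hi hlt, evar_succ, ej_pow_eq n i hi]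
      exact Ideal.add_mem _ (Ideal.mem_sup_right (hrel_mem n i))
        (Ideal.mem_sup_left (restj_mem n hn i hi hlt))

lemma le_oddIdeal (n : ℕ) (hn : 2 ≤ n) (hodd : Odd n) :
    Ideal.span ({evar n 1} : Set (FreeE n)) ⊔ presIdeal n ≤ oddIdeal n := by
  have he1 : evar n 1 ∈ oddIdeal n := Ideal.subset_span (Or.inl (Set.mem_insert _ _))
  have hspan : Ideal.span ({evar n 1} : Set (FreeE n)) ≤ oddIdeal n := by
    rw [Ideal.span_le]
    intro y hy
    rw [Set.mem_singleton_iff] at hy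
    rw [hy]
    exact he1
  apply sup_le hspan
  unfold presIdeal
  rw [Ideal.span_le]
  rintro q (hq | ⟨i, rfl⟩)
  · simp only [Set.mem_insert_iff, Set.mem_singleton_iff] at hq
    rcases hq with rfl | rfl | rfl
    · exact Ideal.pow_mem_of_mem _ he1 _ (by omega)
    · exact Ideal.mul_mem_right _ _ he1
    · exact Ideal.subset_span (Or.inl (Set.mem_insert_of_mem _ rfl))
  · show hrel n (i.val + 1) ∈ oddIdeal n
    by_cases h0 : i.val = 0
    · have h1 : hrel n (i.val + 1) = 0 := by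
        unfold hrel
        rw [if_neg (by omega), if_neg (by omega)]
      rw [h1]
      exact Ideal.zero_mem _
    by_cases h1 : i.val = 1
    · have hi : i = i1 n hn := Fin.ext h1
      subst hi
      have hlt := lt_two_pow_klog_two_of_odd n hn hodd
      have h3 := eq_sub_of_add_eq (e2_pow_eq n hn).symm
      rw [show (i1 n hn).val + 1 = 2 from rfl, h3]
      refine Ideal.sub_mem _ ?_ (hspan (rest2_mem n hn hlt))
      have hg : evar n ((i1 n hn).val + 1) ^ 2 ^ kprime n ((i1 n hn).val + 1) ∈ oddIdeal n :=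
        Ideal.subset_span (Or.inr ⟨i1 n hn, rfl⟩)
      rw [show (i1 n hn).val + 1 = 2 from rfl, kprime_two_of_lt n hn hlt, evar_two n hn] at hg
      exact hg
    · have hi : 2 ≤ i.val := by omega
      have hlt := lt_mul_klog_of_odd n hn hodd i hi
      have h3 := eq_sub_of_add_eq (ej_pow_eq n i hi).symm
      rw [h3]
      refine Ideal.sub_mem _ ?_ (hspan (restj_mem n hn i hi hlt))
      have hg : evar n (i.val + 1) ^ 2 ^ kprime n (i.val + 1) ∈ oddIdeal n :=
        Ideal.subset_span (Or.inr ⟨i, rfl⟩)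
      rw [kprime_ge_of_lt n hn i hi hlt, evar_succ] at hg
      exact hg

theorem main17747 (n : ℕ) (hn : 2 ≤ n)
    (τ : P n →ₐ[ZMod 2] P n) (hτ1 : τ (eps n 1) = eps n 1)
    (hτ : ∀ j : ℕ, 2 ≤ j → j ≤ numVars n → τ (eps n j) = eps n j + eps n 1 ^ (2 * j - 3))
    (hodd : Odd n) (q : FreeE n) :
    (∃ w : P n, τ w = w ∧ phi n q = eps n 1 * w) ↔ q ∈ oddIdeal n := by
  constructor
  · rintro ⟨w, hw, hq⟩
    have hwr : w ∈ (phi n).range := by
      rw [main17741 hn τ hτ1 hτ, AlgHom.mem_equalizer, AlgHom.id_apply]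
      exact hw
    obtain ⟨g, rfl⟩ := hwr
    have hk : q - evar n 1 * g ∈ RingHom.ker (phi n) := by
      rw [RingHom.mem_ker, map_sub, map_mul, phi_evar_one, hq]
      exact sub_self _
    rw [main17742 n hn] at hk
    have h1 : q = evar n 1 * g + (q - evar n 1 * g) := by ring
    rw [h1]
    apply le_oddIdeal n hn hodd
    exact Ideal.add_mem _
      (Ideal.mem_sup_left (Ideal.mul_mem_right _ _ (Ideal.subset_span (Set.mem_singleton _))))
      (Ideal.mem_sup_right hk)
  · intro hq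
    have hq' := oddIdeal_le n hn hodd hq
    obtain ⟨a, ha, r, hr, rfl⟩ := Submodule.mem_sup.mp hq'
    obtain ⟨g, rfl⟩ := Ideal.mem_span_singleton'.mp ha
    refine ⟨phi n g, tau_phi hn τ hτ1 hτ g, ?_⟩
    have hr0 : phi n r = 0 := presIdeal_le_ker n hn hr
    rw [map_add, map_mul, phi_evar_one, hr0, add_zero, mul_comm]

end Groth.Agent.Lib.Helper6.QsChowLib
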