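import Mathlib
import Groth.Prelude.Def_W4c4chowquasisplitPn2
import Groth.Agent.Lib.Helper6.QsChow.QC6

/-!
# The case `n = 2 ^ b`: presentation of `P^τ` through `psi`
-/

set_option autoImplicit false
set_option linter.unusedSectionVars false
set_option linter.unusedVariables false
set_option linter.unusedSimpArgs false
set_option maxHeartbeats 400000

noncomputable section

namespace Groth.Agent.Lib.Helper6.QsChowLib

open MvPolynomial QsChow

/-- inclusion of the polynomial ring without `x` -/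
def iota (n : ℕ) : FreeP n →ₐ[ZMod 2] FreeE n := rename some

lemma iota_X (n : ℕ) (i : Fin (numVars n)) : iota n (X i) = X (some i) := by
  unfold iota
  rw [rename_X]

lemma phi_iota (n : ℕ) (q : FreeP n) : phi n (iota n q) = psi n q := by
  unfold phi psi iota
  rw [aeval_rename]
  rfl

lemma evarE_succ (n : ℕ) (i : Fin (numVars n)) : evarE n (i.val + 1) = X i := by
  unfold evarE
  rw [dif_pos ⟨Nat.succ_pos _, i.isLt⟩]
  rfl

lemma evarE_one (n : ℕ) : evarE n 1 = X (i0 n) := evarE_succ n (i0 n)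

lemma evarE_two (n : ℕ) (hn : 2 ≤ n) : evarE n 2 = X (i1 n hn) := evarE_succ n (i1 n hn)

lemma psi_X (n : ℕ) (i : Fin (numVars n)) : psi n (X i) = phi n (X (some i)) := by
  rw [← iota_X, phi_iota]

lemma psi_evarE_one (n : ℕ) : psi n (evarE n 1) = eps n 1 := by
  rw [evarE_one, psi_X, ← evar_one, phi_evar_one]

lemma psi_evarE_two (n : ℕ) (hn : 2 ≤ n) :
    psi n (evarE n 2) = eps n 2 ^ 2 + eps n 1 * eps n 2 := by
  rw [evarE_two n hn, psi_X, ← evar_two n hn, phi_evar_two n hn]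

lemma psi_evarE_ge (n : ℕ) (i : Fin (numVars n)) (hi : 2 ≤ i.val) :
    psi n (evarE n (i.val + 1)) =
      eps n (i.val + 1) + eps n 1 ^ (2 * (i.val + 1) - 4) * eps n 2 := by
  rw [evarE_succ, psi_X, ← evar_succ, phi_evar_ge n i hi]

/-- the polynomial `Σ_{t<k'_2} e_1^(2^k'_2 - 2^(t+1)) e_2^(2^t)` -/
def Sp (n : ℕ) : FreeP n :=
  ∑ t ∈ Finset.range (kprime n 2), evarE n 1 ^ (2 ^ kprime n 2 - 2 ^ (t + 1)) * evarE n 2 ^ 2 ^ t

lemma psi_Sp_gen (n : ℕ) (hn : 2 ≤ n) :
    psi n (Sp n) = eps n 2 ^ 2 ^ kprime n 2 + eps n 1 ^ (2 ^ kprime n 2 - 1) * eps n 2 := by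
  unfold Sp
  rw [map_sum, ← telescope (two_eq_zero_P n) (eps n 1) (eps n 2) (kprime n 2)]
  apply Finset.sum_congr rfl
  intro t _
  rw [map_mul, map_pow, map_pow, psi_evarE_one, psi_evarE_two n hn]

section pow

variable (n : ℕ) (hn : 2 ≤ n) (b : ℕ) (hb : 1 ≤ b) (hnb : n = 2 ^ b)

include hb hnb in
lemma klog_two_pow : klog n 2 = b := by
  unfold klog
  have h1 : (2 * n - 1) / (2 * 2 - 3) = 2 * n - 1 := by norm_num
  rw [h1]
  have hpos : 1 ≤ 2 ^ b := Nat.one_le_two_pow
  have hn1 : 1 ≤ n := by rw [hnb]; exact hpos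
  apply (Nat.log_eq_iff (Or.inl (by omega))).mpr
  rw [pow_succ, ← hnb]
  omega

include hnb in
lemma kprime_two_pow : kprime n 2 = b := by
  unfold kprime
  rw [if_neg (by norm_num), if_pos rfl, hnb]
  exact Nat.log_pow (by norm_num) b

include hnb in
lemma kprime_one_pow : kprime n 1 = b := by
  have : Fact (Nat.Prime 2) := ⟨Nat.prime_two⟩
  unfold kprime twoExp
  rw [if_pos rfl, hnb]
  exact padicValNat.prime_pow b

include hn hnb in
lemma lt_mul_klog_of_pow (i : Fin (numVars n)) (hi : 2 ≤ i.val) :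
    n < (2 * (i.val + 1) - 3) * 2 ^ klog n (i.val + 1) := by
  have hle := le_mul_klog n hn i hi
  have hne : n ≠ (2 * (i.val + 1) - 3) * 2 ^ klog n (i.val + 1) := by
    intro heq
    have hdvd : (2 * (i.val + 1) - 3) ∣ 2 ^ b := ⟨2 ^ klog n (i.val + 1), by rw [← hnb]; exact heq⟩
    obtain ⟨m, hm, hdm⟩ := (Nat.dvd_prime_pow Nat.prime_two).mp hdvd
    rcases Nat.eq_zero_or_pos m with h0 | hpos
    · rw [h0, pow_zero] at hdm
      omega
    · obtain ⟨m', rfl⟩ : ∃ m', m = m' + 1 := ⟨m - 1, by omega⟩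
      rw [pow_succ] at hdm
      omega
  omega

include hn hb hnb in
lemma sub_ge_of_pow (i : Fin (numVars n)) (hi : 2 ≤ i.val) (r : ℕ)
    (hr : r ≤ klog n (i.val + 1)) :
    n + 2 ^ r ≤ (2 * (i.val + 1) - 3) * 2 ^ klog n (i.val + 1) := by
  have hlt := lt_mul_klog_of_pow n hn b hnb i hi
  have hs := (klog_spec n (i.val + 1) hn (by omega) i.isLt).1
  generalize hk : klog n (i.val + 1) = k at *
  have hd3 : 3 ≤ 2 * (i.val + 1) - 3 := by omega
  have hkb : k < b := by
    have h1 : 3 * 2 ^ k ≤ (2 * (i.val + 1) - 3) * 2 ^ k := Nat.mul_le_mul_right _ hd3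
    have h2 : 2 ^ k < 2 ^ b := by
      have hpos : 1 ≤ 2 ^ k := Nat.one_le_two_pow
      rw [← hnb]
      omega
    exact (Nat.pow_lt_pow_iff_right (by norm_num)).mp h2
  have hk' : 2 ^ k = 2 ^ r * 2 ^ (k - r) := by
    rw [← pow_add]
    congr 1
    omega
  obtain ⟨u, hu⟩ : ∃ u, n = 2 ^ r * u := ⟨2 ^ (b - r), by
    rw [hnb, ← pow_add]
    congr 1
    omega⟩
  obtain ⟨v, hv⟩ : ∃ v, (2 * (i.val + 1) - 3) * 2 ^ k = 2 ^ r * v :=
    ⟨(2 * (i.val + 1) - 3) * 2 ^ (k - r), by rw [hk']; ring⟩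
  have h1 : 2 ^ r * u < 2 ^ r * v := by
    rw [← hu, ← hv]
    exact hlt
  have h2 : u < v := lt_of_mul_lt_mul_left h1 (Nat.zero_le _)
  calc n + 2 ^ r = 2 ^ r * (u + 1) := by rw [mul_add, mul_one, ← hu]
    _ ≤ 2 ^ r * v := Nat.mul_le_mul_left _ h2
    _ = (2 * (i.val + 1) - 3) * 2 ^ k := hv.symm

include hn hb hnb in
lemma psi_Sp : psi n (Sp n) = eps n 1 ^ (n - 1) * eps n 2 := by
  have hkl := klog_two_pow n b hb hnb
  have hun : eps n 2 ^ 2 ^ b = 0 := by
    have h' : eps n 2 ^ 2 ^ klog n 2 = 0 := eps_pow_klog n (i1 n hn) le_rfl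
    rw [hkl] at h'
    exact h'
  rw [psi_Sp_gen n hn, kprime_two_pow n b hnb, hun, zero_add, ← hnb]

/-- the retraction sending `x` to `Sp` -/
def rhoFun : Idx n → FreeP n
  | none => Sp n
  | some i => X i

/-- the retraction sending `x` to `Sp` -/
def rho : FreeE n →ₐ[ZMod 2] FreeP n := aeval (rhoFun n)

lemma rho_iota (q : FreeP n) : rho n (iota n q) = q := by
  unfold rho iota
  rw [aeval_rename]
  have h : (rhoFun n ∘ some) = (X : Fin (numVars n) → FreeP n) := rfl
  rw [h]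
  exact aeval_X_left_apply q

lemma rho_X_some (i : Fin (numVars n)) : rho n (X (some i)) = X i := by
  unfold rho
  rw [aeval_X]
  rfl

lemma rho_evar_succ (i : Fin (numVars n)) : rho n (evar n (i.val + 1)) = X i := by
  rw [evar_succ, rho_X_some]

lemma rho_evar_one : rho n (evar n 1) = X (i0 n) := rho_evar_succ n (i0 n)

include hn in
lemma rho_evar_two : rho n (evar n 2) = X (i1 n hn) := rho_evar_succ n (i1 n hn)

lemma rho_xvar : rho n (xvar n) = Sp n := by
  unfold rho xvar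
  rw [aeval_X]
  rfl

include hn in
lemma rho_sPoly (j : ℕ) :
    rho n (sPoly n j) = ∑ t ∈ Finset.range (klog n j),
      X (i0 n) ^ (2 ^ klog n j - 2 ^ (t + 1)) * X (i1 n hn) ^ 2 ^ t := by
  unfold sPoly
  rw [map_sum]
  apply Finset.sum_congr rfl
  intro t _
  rw [map_mul, map_pow, map_pow, rho_evar_one, rho_evar_two n hn]

include hn hnb in
lemma Sp_eq : Sp n = ∑ t ∈ Finset.range b,
    X (i0 n) ^ (2 ^ b - 2 ^ (t + 1)) * X (i1 n hn) ^ 2 ^ t := by
  unfold Sp
  rw [kprime_two_pow n b hnb, evarE_one, evarE_two n hn]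

include hn hb hnb in
lemma psi_rho (g : FreeE n) : psi n (rho n g) = phi n g := by
  have h : (psi n).comp (rho n) = phi n := by
    apply MvPolynomial.algHom_ext
    intro v
    rw [AlgHom.comp_apply]
    rcases v with _ | i
    · have h1 : rho n (X none) = Sp n := rho_xvar n
      rw [h1, psi_Sp n hn b hb hnb, phi_none]
      rfl
    · rw [rho_X_some, psi_X]
  exact DFunLike.congr_fun h g

lemma two_eq_zero_freeP : (2 : FreeP n) = 0 := by
  have h := add_self_freeP n (1 : FreeP n)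
  rw [one_add_one_eq_two] at h
  exact h

lemma sum_sq_char2 {R : Type*} [CommRing R] (h2 : (2 : R) = 0) (f : ℕ → R) (m : ℕ) :
    (∑ t ∈ Finset.range m, f t) ^ 2 = ∑ t ∈ Finset.range m, (f t) ^ 2 := by
  induction m with
  | zero => simp
  | succ m ih =>
    rw [Finset.sum_range_succ, Finset.sum_range_succ, ← ih]
    linear_combination (∑ t ∈ Finset.range m, f t) * f m * h2

lemma gen0_mem : (X (i0 n) : FreeP n) * Sp n ∈ powIdeal n := by
  rw [← evarE_one]
  exact Ideal.subset_span (Or.inl (Set.mem_singleton _))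

lemma geni_mem (i : Fin (numVars n)) :
    evarE n (i.val + 1) ^ 2 ^ kprime n (i.val + 1) ∈ powIdeal n :=
  Ideal.subset_span (Or.inr ⟨i, rfl⟩)

include hnb in
lemma X0_pow_n_mem : (X (i0 n) : FreeP n) ^ n ∈ powIdeal n := by
  have h := geni_mem n (i0 n)
  rw [show (i0 n).val + 1 = 1 from rfl, kprime_one_pow n b hnb, ← hnb, evarE_one] at h
  exact h

include hnb in
lemma X0_pow_mul_mem (m : ℕ) (hm : n ≤ m) (y : FreeP n) :
    (X (i0 n) : FreeP n) ^ m * y ∈ powIdeal n := by
  have h1 : (X (i0 n) : FreeP n) ^ m = X (i0 n) ^ n * X (i0 n) ^ (m - n) := by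
    rw [← pow_add]
    congr 1
    omega
  rw [h1]
  exact Ideal.mul_mem_right _ _ (Ideal.mul_mem_right _ _ (X0_pow_n_mem n b hnb))

include hn hnb in
lemma X1_pow_mem : (X (i1 n hn) : FreeP n) ^ 2 ^ b ∈ powIdeal n := by
  have h := geni_mem n (i1 n hn)
  rw [show (i1 n hn).val + 1 = 2 from rfl, kprime_two_pow n b hnb, evarE_two n hn] at h
  exact h

include hn hb hnb in
lemma Sp_sq_mem : Sp n ^ 2 ∈ powIdeal n := by
  rw [Sp_eq n hn b hnb, sum_sq_char2 (two_eq_zero_freeP n)]
  refine Ideal.sum_mem _ fun t ht => ?_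
  have htb : t < b := Finset.mem_range.mp ht
  have he : ((X (i0 n) : FreeP n) ^ (2 ^ b - 2 ^ (t + 1)) * X (i1 n hn) ^ 2 ^ t) ^ 2 =
      X (i0 n) ^ (2 * (2 ^ b - 2 ^ (t + 1))) * X (i1 n hn) ^ 2 ^ (t + 1) := by
    rw [mul_pow, ← pow_mul, ← pow_mul, mul_comm (2 ^ b - 2 ^ (t + 1)) 2, ← pow_succ]
  rw [he]
  by_cases htb' : t + 1 = b
  · rw [htb', Nat.sub_self, mul_zero, pow_zero, one_mul]
    exact X1_pow_mem n hn b hnb
  · have h1 : t + 1 ≤ b - 1 := by omega
    have h2 : 2 ^ (t + 1) ≤ 2 ^ (b - 1) := Nat.pow_le_pow_right (by norm_num) h1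
    have h3 : 2 ^ b = 2 * 2 ^ (b - 1) := by
      rw [← pow_succ']
      congr 1
      omega
    apply X0_pow_mul_mem n b hnb
    rw [hnb]
    omega

include hn hb hnb in
lemma rho_mem : presIdeal n ≤ Ideal.comap (rho n) (powIdeal n) := by
  unfold presIdeal
  rw [Ideal.span_le]
  rintro q (hq | ⟨i, rfl⟩)
  · simp only [Set.mem_insert_iff, Set.mem_singleton_iff] at hq
    rcases hq with rfl | rfl | rfl
    · rw [SetLike.mem_coe, Ideal.mem_comap, map_pow, rho_evar_one]
      exact X0_pow_n_mem n b hnb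
    · rw [SetLike.mem_coe, Ideal.mem_comap, map_mul, rho_evar_one, rho_xvar]
      exact gen0_mem n
    · rw [SetLike.mem_coe, Ideal.mem_comap, map_pow, rho_xvar]
      exact Sp_sq_mem n hn b hb hnb
  · rw [SetLike.mem_coe, Ideal.mem_comap]
    show rho n (hrel n (i.val + 1)) ∈ powIdeal n
    by_cases h0 : i.val = 0
    · have h1 : hrel n (i.val + 1) = 0 := by
        unfold hrel
        rw [if_neg (by omega), if_neg (by omega)]
      rw [h1, map_zero]
      exact Ideal.zero_mem _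
    by_cases h1 : i.val = 1
    · have hi : i = i1 n hn := Fin.ext h1
      subst hi
      have hkl := klog_two_pow n b hb hnb
      have h2 : rho n (hrel n 2) = 0 := by
        unfold hrel
        rw [if_pos rfl, map_add, map_mul, map_pow, rho_evar_one, rho_xvar, rho_sPoly n hn, hkl,
          ← Sp_eq n hn b hnb, ← hnb, Nat.sub_self, pow_zero, one_mul]
        exact add_self_freeP n _
      rw [show (i1 n hn).val + 1 = 2 from rfl, h2]
      exact Ideal.zero_mem _
    · have hi : 2 ≤ i.val := by omega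
      have hlt := lt_mul_klog_of_pow n hn b hnb i hi
      unfold hrel
      rw [if_neg (by omega), if_pos ⟨by omega, i.isLt⟩, map_add, map_add, map_mul, map_mul,
        map_pow, map_pow, map_pow, rho_evar_one, rho_xvar, rho_evar_succ, rho_sPoly n hn]
      refine Ideal.add_mem _ (Ideal.add_mem _ ?_ ?_) ?_
      · have hg := geni_mem n i
        rw [kprime_ge_of_lt n hn i hi hlt, evarE_succ] at hg
        exact hg
      · obtain ⟨A', hA'⟩ : ∃ A', (2 * (i.val + 1) - 3) * 2 ^ klog n (i.val + 1) - n = A' + 1 :=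
          ⟨(2 * (i.val + 1) - 3) * 2 ^ klog n (i.val + 1) - n - 1, by omega⟩
        rw [hA', pow_succ, mul_assoc]
        exact Ideal.mul_mem_left _ _ (gen0_mem n)
      · rw [Finset.mul_sum]
        refine Ideal.sum_mem _ fun t ht => ?_
        have htk : t + 1 ≤ klog n (i.val + 1) := Finset.mem_range.mp ht
        have h3 := sub_ge_of_pow n hn b hb hnb i hi (t + 1) htk
        have h4 : 2 ^ (t + 1) ≤ 2 ^ klog n (i.val + 1) := Nat.pow_le_pow_right (by norm_num) htk
        have h5 : (2 * (i.val + 1) - 3) = (2 * (i.val + 1) - 4) + 1 := by omega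
        rw [h5, add_mul, one_mul] at h3
        rw [← mul_assoc, ← pow_add]
        apply X0_pow_mul_mem n b hnb
        omega

include hn hb hnb in
lemma powIdeal_le_ker : powIdeal n ≤ RingHom.ker (psi n) := by
  have hk2 := kprime_two_pow n b hnb
  have hk1 := kprime_one_pow n b hnb
  have hkl := klog_two_pow n b hb hnb
  have htn : eps n 1 ^ 2 ^ b = 0 := by
    rw [← hnb]
    exact eps_one_pow n
  have hun : eps n 2 ^ 2 ^ b = 0 := by
    have h' : eps n 2 ^ 2 ^ klog n 2 = 0 := eps_pow_klog n (i1 n hn) le_rfl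
    rw [hkl] at h'
    exact h'
  unfold powIdeal
  rw [Ideal.span_le]
  rintro q (hq | ⟨i, rfl⟩)
  · rw [Set.mem_singleton_iff] at hq
    rw [hq, SetLike.mem_coe, RingHom.mem_ker, map_mul, psi_evarE_one]
    have h1 : psi n (∑ t ∈ Finset.range (kprime n 2),
        evarE n 1 ^ (2 ^ kprime n 2 - 2 ^ (t + 1)) * evarE n 2 ^ 2 ^ t) =
        eps n 1 ^ (n - 1) * eps n 2 := psi_Sp n hn b hb hnb
    rw [h1, ← mul_assoc, ← pow_succ', show n - 1 + 1 = n by omega, eps_one_pow, zero_mul]
  · rw [SetLike.mem_coe, RingHom.mem_ker]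
    show psi n (evarE n (i.val + 1) ^ 2 ^ kprime n (i.val + 1)) = 0
    rw [map_pow]
    by_cases h0 : i.val = 0
    · have hi : i = i0 n := Fin.ext h0
      subst hi
      rw [show (i0 n).val + 1 = 1 from rfl, psi_evarE_one, hk1, htn]
    by_cases h1 : i.val = 1
    · have hi : i = i1 n hn := Fin.ext h1
      subst hi
      have h2 : (eps n 2 ^ 2) ^ 2 ^ b = (eps n 2 ^ 2 ^ b) ^ 2 := by
        rw [← pow_mul, ← pow_mul, mul_comm]
      rw [show (i1 n hn).val + 1 = 2 from rfl, psi_evarE_two n hn, hk2,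
        add_pow_two_pow (two_eq_zero_P n), mul_pow, htn, zero_mul, add_zero, h2, hun,
        zero_pow (by norm_num)]
    · have hi : 2 ≤ i.val := by omega
      have hlt := lt_mul_klog_of_pow n hn b hnb i hi
      rw [kprime_ge_of_lt n hn i hi hlt, psi_evarE_ge n i hi, add_pow_two_pow (two_eq_zero_P n),
        eps_pow_klog n i (by omega), zero_add, mul_pow, ← pow_mul]
      have hge : n ≤ (2 * (i.val + 1) - 4) * 2 ^ klog n (i.val + 1) := by
        have h3 := sub_ge_of_pow n hn b hb hnb i hi (klog n (i.val + 1)) le_rfl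
        have h5 : (2 * (i.val + 1) - 3) = (2 * (i.val + 1) - 4) + 1 := by omega
        rw [h5, add_mul, one_mul] at h3
        omega
      rw [pow_eq_zero_of_le hge (eps_one_pow n), zero_mul]

include hn hb hnb in
theorem main17749
    (τ : P n →ₐ[ZMod 2] P n) (hτ1 : τ (eps n 1) = eps n 1)
    (hτ : ∀ j : ℕ, 2 ≤ j → j ≤ numVars n → τ (eps n j) = eps n j + eps n 1 ^ (2 * j - 3)) :
    (psi n).range = AlgHom.equalizer τ (AlgHom.id (ZMod 2) (P n)) ∧
      RingHom.ker (psi n) = powIdeal n := by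
  constructor
  · ext z
    rw [AlgHom.mem_equalizer, AlgHom.id_apply]
    constructor
    · intro hz
      obtain ⟨q, hq⟩ := (AlgHom.mem_range _).mp hz
      rw [← hq, ← phi_iota]
      exact tau_phi hn τ hτ1 hτ _
    · intro hz
      have hzr : z ∈ (phi n).range := by
        rw [main17741 hn τ hτ1 hτ, AlgHom.mem_equalizer, AlgHom.id_apply]
        exact hz
      obtain ⟨g, hg⟩ := (AlgHom.mem_range _).mp hzr
      exact (AlgHom.mem_range _).mpr ⟨rho n g, by rw [psi_rho n hn b hb hnb, hg]⟩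
  · apply le_antisymm
    · intro q hq
      have h1 : phi n (iota n q) = 0 := by
        rw [phi_iota]
        exact RingHom.mem_ker.mp hq
      have h2 : iota n q ∈ presIdeal n := by
        rw [← main17742 n hn]
        exact RingHom.mem_ker.mpr h1
      have h3 := rho_mem n hn b hb hnb h2
      rw [Ideal.mem_comap, rho_iota] at h3
      exact h3
    · exact powIdeal_le_ker n hn b hb hnb

end pow

end Groth.Agent.Lib.Helper6.QsChowLib
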