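import Mathlib
import Groth.Prelude.Def_W4c4chowquasisplitPn2
import Groth.Agent.Lib.Helper6.QsChow.QC7

/-!
# The case `n` even, not a power of `2`: `P^τ / ε₁^(2^a) P^τ` through `psi`
-/

set_option autoImplicit false
set_option linter.unusedSectionVars false
set_option linter.unusedVariables false
set_option linter.unusedSimpArgs false
set_option maxHeartbeats 400000

noncomputable section

namespace Groth.Agent.Lib.Helper6.QsChowLib

open MvPolynomial QsChow

/-- image of `sPoly n j` in the polynomial ring without `x` -/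
def SpG (n : ℕ) (hn : 2 ≤ n) (j : ℕ) : FreeP n :=
  ∑ t ∈ Finset.range (klog n j), X (i0 n) ^ (2 ^ klog n j - 2 ^ (t + 1)) * X (i1 n hn) ^ 2 ^ t

/-- the polynomial replacing `x` -/
def Rx (n : ℕ) (hn : 2 ≤ n) (il : Fin (numVars n)) : FreeP n :=
  X il ^ 2 ^ klog n (il.val + 1) +
    X (i0 n) ^ ((2 * (il.val + 1) - 4) * 2 ^ klog n (il.val + 1)) * SpG n hn (il.val + 1)

/-- general retraction sending `x` to `R` -/
def rhoGFun (n : ℕ) (R : FreeP n) : Idx n → FreeP n
  | none => R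
  | some i => X i

/-- general retraction sending `x` to `R` -/
def rhoG (n : ℕ) (R : FreeP n) : FreeE n →ₐ[ZMod 2] FreeP n := aeval (rhoGFun n R)

lemma rhoG_iota (n : ℕ) (R : FreeP n) (q : FreeP n) : rhoG n R (iota n q) = q := by
  unfold rhoG iota
  rw [aeval_rename]
  have h : (rhoGFun n R ∘ some) = (X : Fin (numVars n) → FreeP n) := rfl
  rw [h]
  exact aeval_X_left_apply q

lemma rhoG_X_some (n : ℕ) (R : FreeP n) (i : Fin (numVars n)) : rhoG n R (X (some i)) = X i := by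
  unfold rhoG
  rw [aeval_X]
  rfl

lemma rhoG_evar_succ (n : ℕ) (R : FreeP n) (i : Fin (numVars n)) :
    rhoG n R (evar n (i.val + 1)) = X i := by
  rw [evar_succ, rhoG_X_some]

lemma rhoG_evar_one (n : ℕ) (R : FreeP n) : rhoG n R (evar n 1) = X (i0 n) :=
  rhoG_evar_succ n R (i0 n)

lemma rhoG_evar_two (n : ℕ) (hn : 2 ≤ n) (R : FreeP n) : rhoG n R (evar n 2) = X (i1 n hn) :=
  rhoG_evar_succ n R (i1 n hn)

lemma rhoG_xvar (n : ℕ) (R : FreeP n) : rhoG n R (xvar n) = R := by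
  unfold rhoG xvar
  rw [aeval_X]
  rfl

lemma rhoG_sPoly (n : ℕ) (hn : 2 ≤ n) (R : FreeP n) (j : ℕ) :
    rhoG n R (sPoly n j) = SpG n hn j := by
  unfold sPoly SpG
  rw [map_sum]
  apply Finset.sum_congr rfl
  intro t _
  rw [map_mul, map_pow, map_pow, rhoG_evar_one, rhoG_evar_two n hn]

lemma iota_SpG (n : ℕ) (hn : 2 ≤ n) (j : ℕ) : iota n (SpG n hn j) = sPoly n j := by
  unfold SpG sPoly
  rw [map_sum]
  apply Finset.sum_congr rfl
  intro t _
  rw [map_mul, map_pow, map_pow, iota_X, iota_X, ← evar_one, ← evar_two n hn]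

lemma iota_Rx (n : ℕ) (hn : 2 ≤ n) (il : Fin (numVars n)) (hi : 2 ≤ il.val) :
    iota n (Rx n hn il) = hrel n (il.val + 1) +
      evar n 1 ^ ((2 * (il.val + 1) - 3) * 2 ^ klog n (il.val + 1) - n) * xvar n := by
  unfold Rx
  rw [map_add, map_mul, map_pow, map_pow, iota_X, iota_X, iota_SpG, ej_pow_eq n il hi,
    ← evar_one]
  linear_combination (evar n 1 ^ ((2 * (il.val + 1) - 4) * 2 ^ klog n (il.val + 1)) *
    sPoly n (il.val + 1)) * two_eq_zero_E n

lemma ev_gen_i (n : ℕ) (i : Fin (numVars n)) :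
    evarE n (i.val + 1) ^ 2 ^ kprime n (i.val + 1) ∈ evenIdeal n :=
  Ideal.subset_span (Or.inr ⟨i, rfl⟩)

lemma ev_gen_star (n : ℕ) :
    evarE n 1 * evarE n (lIdx n) ^ 2 ^ (kprime n (lIdx n) - 1) ∈ evenIdeal n :=
  Ideal.subset_span (Or.inl (Set.mem_singleton _))

lemma even_data (n : ℕ) (hn : 2 ≤ n) (a : ℕ) (hta : twoExp n = a) (ha : 1 ≤ a)
    (hne : n ≠ 2 ^ a) :
    ∃ (d r : ℕ) (il : Fin (numVars n)), n = 2 ^ a * d ∧ d = 2 * r + 1 ∧ 1 ≤ r ∧
      il.val = r + 1 := by
  have hp : Fact (Nat.Prime 2) := ⟨Nat.prime_two⟩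
  have hdvd : 2 ^ a ∣ n := by
    rw [← hta]
    exact pow_padicValNat_dvd
  obtain ⟨d, hd⟩ := hdvd
  have hodd : Odd d := by
    by_contra hodd
    rw [Nat.not_odd_iff_even] at hodd
    obtain ⟨s, hs⟩ := hodd
    have h2 : 2 ^ (padicValNat 2 n + 1) ∣ n := by
      have h3 : padicValNat 2 n = a := hta
      rw [h3]
      exact ⟨s, by rw [hd, hs, pow_succ]; ring⟩
    exact pow_succ_padicValNat_not_dvd (by omega) h2
  obtain ⟨r, hr⟩ := hodd
  have hr1 : 1 ≤ r := by
    by_contra h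
    have h0 : r = 0 := by omega
    rw [h0] at hr
    apply hne
    rw [hd, hr]
    ring
  have h2a : 2 ≤ 2 ^ a := by
    calc 2 = 2 ^ 1 := rfl
      _ ≤ 2 ^ a := Nat.pow_le_pow_right (by norm_num) ha
  have h2d : 2 * d ≤ n := by
    rw [hd]
    exact Nat.mul_le_mul_right _ h2a
  have hlt : r + 1 < numVars n := by
    unfold numVars
    omega
  exact ⟨d, r, ⟨r + 1, hlt⟩, hd, hr, hr1, rfl⟩

section even

variable (n : ℕ) (hn : 2 ≤ n) (a d r : ℕ) (ha : 1 ≤ a) (hta : twoExp n = a)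
  (hnd : n = 2 ^ a * d) (hdr : d = 2 * r + 1) (hr : 1 ≤ r) (il : Fin (numVars n))
  (hil : il.val = r + 1)

include hn ha hta hnd hdr hr hil

lemma ev_three_le : 2 ^ a * 3 ≤ n := by
  rw [hnd]
  exact Nat.mul_le_mul_left _ (by omega)

lemma klog_il : klog n (il.val + 1) = a := by
  unfold klog
  have hd : 2 * (il.val + 1) - 3 = d := by omega
  rw [hd]
  have hdpos : 0 < d := by omega
  have hpa : 1 ≤ 2 ^ a := Nat.one_le_two_pow
  apply (Nat.log_eq_iff (Or.inl (by omega))).mpr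
  constructor
  · rw [Nat.le_div_iff_mul_le hdpos, ← hnd]
    omega
  · rw [Nat.div_lt_iff_lt_mul hdpos, pow_succ, mul_right_comm, ← hnd]
    omega

lemma kprime_il : kprime n (il.val + 1) = a + 1 := by
  unfold kprime
  rw [if_neg (by omega), if_neg (by omega)]
  have hd : 2 * (il.val + 1) - 3 = d := by omega
  rw [hd]
  have hdpos : 0 < d := by omega
  have h2n : 2 * n / d = 2 ^ (a + 1) := by
    have h1 : 2 * n = 2 ^ (a + 1) * d := by
      rw [hnd, pow_succ]
      ring
    rw [h1]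
    exact Nat.mul_div_cancel _ hdpos
  rw [h2n]
  exact Nat.log_pow (by norm_num) _

lemma kprime_one_ev : kprime n 1 = a := by
  unfold kprime
  rw [if_pos rfl]
  exact hta

lemma lIdx_ev : lIdx n = il.val + 1 := by
  unfold lIdx
  rw [hta]
  have h1 : n / 2 ^ a = d := by
    rw [hnd]
    exact Nat.mul_div_cancel_left d (by positivity)
  rw [h1]
  omega

lemma lt_two_pow_klog_two_ev : n < 2 ^ klog n 2 := by
  have h1 := le_two_pow_klog_two n hn
  have hne : n ≠ 2 ^ klog n 2 := by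
    intro heq
    have hdvd : d ∣ 2 ^ klog n 2 := ⟨2 ^ a, by rw [← heq, hnd]; ring⟩
    obtain ⟨m, hm, hdm⟩ := (Nat.dvd_prime_pow Nat.prime_two).mp hdvd
    rcases Nat.eq_zero_or_pos m with h0 | hpos
    · rw [h0, pow_zero] at hdm
      omega
    · obtain ⟨m', rfl⟩ : ∃ m', m = m' + 1 := ⟨m - 1, by omega⟩
      rw [pow_succ] at hdm
      omega
  omega

lemma lt_mul_klog_ev (i : Fin (numVars n)) (hi : 2 ≤ i.val) (hne : i ≠ il) :
    n < (2 * (i.val + 1) - 3) * 2 ^ klog n (i.val + 1) := by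
  have hle := le_mul_klog n hn i hi
  have hne' : n ≠ (2 * (i.val + 1) - 3) * 2 ^ klog n (i.val + 1) := by
    intro heq
    generalize klog n (i.val + 1) = k at heq
    obtain ⟨D, hD⟩ : ∃ D, 2 * (i.val + 1) - 3 = 2 * D + 1 := ⟨i.val - 1, by omega⟩
    rw [hD] at heq
    have heq2 : 2 ^ a * (2 * r + 1) = (2 * D + 1) * 2 ^ k := by
      rw [← hdr, ← hnd]
      exact heq
    rcases lt_trichotomy a k with h | h | h
    · obtain ⟨e, he⟩ : ∃ e, k = a + (e + 1) := ⟨k - a - 1, by omega⟩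
      rw [he, pow_add, pow_succ] at heq2
      have h1 : 2 ^ a * (2 * r + 1) = 2 ^ a * ((2 * D + 1) * (2 ^ e * 2)) := by
        rw [heq2]
        ring
      have h2 := Nat.eq_of_mul_eq_mul_left (by positivity) h1
      have h3 : (2 * D + 1) * (2 ^ e * 2) = 2 * ((2 * D + 1) * 2 ^ e) := by ring
      omega
    · rw [← h] at heq2
      have h1 : 2 ^ a * (2 * r + 1) = 2 ^ a * (2 * D + 1) := by
        rw [heq2]
        ring
      have h2 := Nat.eq_of_mul_eq_mul_left (by positivity) h1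
      apply hne
      apply Fin.ext
      omega
    · obtain ⟨e, he⟩ : ∃ e, a = k + (e + 1) := ⟨a - k - 1, by omega⟩
      rw [he, pow_add, pow_succ] at heq2
      have h1 : 2 ^ k * ((2 ^ e * 2) * (2 * r + 1)) = 2 ^ k * (2 * D + 1) := by
        rw [← mul_assoc, heq2]
        ring
      have h2 := Nat.eq_of_mul_eq_mul_left (by positivity) h1
      have h3 : (2 ^ e * 2) * (2 * r + 1) = 2 * (2 ^ e * (2 * r + 1)) := by ring
      omega
  omega

lemma B_ge_ev (i : Fin (numVars n)) (hi : 2 ≤ i.val) :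
    2 ^ a * 2 ≤ (2 * (i.val + 1) - 4) * 2 ^ klog n (i.val + 1) := by
  have hle := le_mul_klog n hn i hi
  have h3 := ev_three_le n hn a d r ha hta hnd hdr hr il hil
  generalize klog n (i.val + 1) = k at hle ⊢
  have hD2 : 2 * (i.val + 1) - 3 = (2 * (i.val + 1) - 4) + 1 := by omega
  have hD3 : 2 ≤ 2 * (i.val + 1) - 4 := by omega
  rw [hD2, add_mul, one_mul] at hle
  have h4 : 2 * 2 ^ k ≤ (2 * (i.val + 1) - 4) * 2 ^ k := Nat.mul_le_mul_right _ hD3
  omega

lemma a_lt_klog_two : a + 1 < klog n 2 := by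
  have h3 := ev_three_le n hn a d r ha hta hnd hdr hr il hil
  have h1 := le_two_pow_klog_two n hn
  have hpa : 1 ≤ 2 ^ a := Nat.one_le_two_pow
  have h2 : 2 ^ (a + 1) < 2 ^ klog n 2 := by
    rw [pow_succ]
    omega
  exact (Nat.pow_lt_pow_iff_right (by norm_num)).mp h2

lemma A_il_zero : (2 * (il.val + 1) - 3) * 2 ^ klog n (il.val + 1) - n = 0 := by
  have hd : 2 * (il.val + 1) - 3 = d := by omega
  rw [klog_il n hn a d r ha hta hnd hdr hr il hil, hd, Nat.mul_comm d (2 ^ a), ← hnd]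
  exact Nat.sub_self n

lemma psi_Rx : psi n (Rx n hn il) = eps n 1 ^ (n - 1) * eps n 2 := by
  have hi2 : 2 ≤ il.val := by omega
  rw [← phi_iota, iota_Rx n hn il hi2, map_add, phi_hrel_ge n hn il hi2, zero_add,
    A_il_zero n hn a d r ha hta hnd hdr hr il hil, pow_zero, one_mul, phi_xvar]

lemma psi_rhoG_ev (g : FreeE n) : psi n (rhoG n (Rx n hn il) g) = phi n g := by
  have h : (psi n).comp (rhoG n (Rx n hn il)) = phi n := by
    apply MvPolynomial.algHom_ext
    intro v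
    rw [AlgHom.comp_apply]
    rcases v with _ | i
    · have h1 : rhoG n (Rx n hn il) (X none) = Rx n hn il := rhoG_xvar n _
      rw [h1, psi_Rx n hn a d r ha hta hnd hdr hr il hil, phi_none]
      rfl
    · rw [rhoG_X_some, psi_X]
  exact DFunLike.congr_fun h g

lemma X0a_mem : (X (i0 n) : FreeP n) ^ 2 ^ a ∈ evenIdeal n := by
  have h := ev_gen_i n (i0 n)
  rw [show (i0 n).val + 1 = 1 from rfl, kprime_one_ev n hn a d r ha hta hnd hdr hr il hil,
    evarE_one] at h
  exact h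

lemma X0_pow_mul_mem_ev (m : ℕ) (hm : 2 ^ a ≤ m) (y : FreeP n) :
    (X (i0 n) : FreeP n) ^ m * y ∈ evenIdeal n := by
  have h1 : (X (i0 n) : FreeP n) ^ m = X (i0 n) ^ 2 ^ a * X (i0 n) ^ (m - 2 ^ a) := by
    rw [← pow_add]
    congr 1
    omega
  rw [h1]
  exact Ideal.mul_mem_right _ _ (Ideal.mul_mem_right _ _
    (X0a_mem n hn a d r ha hta hnd hdr hr il hil))

lemma star_mem : (X (i0 n) : FreeP n) * X il ^ 2 ^ a ∈ evenIdeal n := by
  have h := ev_gen_star n
  rw [lIdx_ev n hn a d r ha hta hnd hdr hr il hil, kprime_il n hn a d r ha hta hnd hdr hr il hil,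
    Nat.add_sub_cancel, evarE_one, evarE_succ] at h
  exact h

lemma X1_mem_ev : (X (i1 n hn) : FreeP n) ^ 2 ^ (klog n 2 - 1) ∈ evenIdeal n := by
  have h := ev_gen_i n (i1 n hn)
  rw [show (i1 n hn).val + 1 = 2 from rfl,
    kprime_two_of_lt n hn (lt_two_pow_klog_two_ev n hn a d r ha hta hnd hdr hr il hil),
    evarE_two n hn] at h
  exact h

lemma Xi_mem_ev (i : Fin (numVars n)) (hi : 2 ≤ i.val) (hne : i ≠ il) :
    (X i : FreeP n) ^ 2 ^ klog n (i.val + 1) ∈ evenIdeal n := by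
  have h := ev_gen_i n i
  rw [kprime_ge_of_lt n hn i hi (lt_mul_klog_ev n hn a d r ha hta hnd hdr hr il hil i hi hne),
    evarE_succ] at h
  exact h

lemma Xil_mem_ev : (X il : FreeP n) ^ 2 ^ (a + 1) ∈ evenIdeal n := by
  have h := ev_gen_i n il
  rw [kprime_il n hn a d r ha hta hnd hdr hr il hil, evarE_succ] at h
  exact h

lemma X0Rx_mem : (X (i0 n) : FreeP n) * Rx n hn il ∈ evenIdeal n := by
  have hi2 : 2 ≤ il.val := by omega
  have hB := B_ge_ev n hn a d r ha hta hnd hdr hr il hil il hi2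
  unfold Rx
  rw [klog_il n hn a d r ha hta hnd hdr hr il hil] at hB ⊢
  rw [mul_add, ← mul_assoc, ← pow_succ']
  refine Ideal.add_mem _ (star_mem n hn a d r ha hta hnd hdr hr il hil)
    (X0_pow_mul_mem_ev n hn a d r ha hta hnd hdr hr il hil _ ?_ _)
  omega

lemma X0_pow_Rx_mem (c : ℕ) (hc : 1 ≤ c) : (X (i0 n) : FreeP n) ^ c * Rx n hn il ∈ evenIdeal n := by
  obtain ⟨c', rfl⟩ : ∃ c', c = c' + 1 := ⟨c - 1, by omega⟩
  rw [pow_succ, mul_assoc]
  exact Ideal.mul_mem_left _ _ (X0Rx_mem n hn a d r ha hta hnd hdr hr il hil)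

lemma rhoG_mem_ev : presIdeal n ≤ Ideal.comap (rhoG n (Rx n hn il)) (evenIdeal n) := by
  have hi2 : 2 ≤ il.val := by omega
  have h3le := ev_three_le n hn a d r ha hta hnd hdr hr il hil
  have hpa : 1 ≤ 2 ^ a := Nat.one_le_two_pow
  unfold presIdeal
  rw [Ideal.span_le]
  rintro q (hq | ⟨i, rfl⟩)
  · simp only [Set.mem_insert_iff, Set.mem_singleton_iff] at hq
    rcases hq with rfl | rfl | rfl
    · rw [SetLike.mem_coe, Ideal.mem_comap, map_pow, rhoG_evar_one, ← mul_one (X (i0 n) ^ n)]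
      exact X0_pow_mul_mem_ev n hn a d r ha hta hnd hdr hr il hil n (by omega) 1
    · rw [SetLike.mem_coe, Ideal.mem_comap, map_mul, rhoG_evar_one, rhoG_xvar]
      exact X0Rx_mem n hn a d r ha hta hnd hdr hr il hil
    · rw [SetLike.mem_coe, Ideal.mem_comap, map_pow, rhoG_xvar]
      have hB := B_ge_ev n hn a d r ha hta hnd hdr hr il hil il hi2
      unfold Rx
      rw [klog_il n hn a d r ha hta hnd hdr hr il hil] at hB ⊢
      have he : ((X il : FreeP n) ^ 2 ^ a +
          X (i0 n) ^ ((2 * (il.val + 1) - 4) * 2 ^ a) * SpG n hn (il.val + 1)) ^ 2 =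
          X il ^ 2 ^ (a + 1) + X (i0 n) ^ ((2 * (il.val + 1) - 4) * 2 ^ a) *
            (SpG n hn (il.val + 1) * (2 * X il ^ 2 ^ a +
              X (i0 n) ^ ((2 * (il.val + 1) - 4) * 2 ^ a) * SpG n hn (il.val + 1))) := by
        rw [pow_succ 2 a, pow_mul]
        ring
      rw [he]
      exact Ideal.add_mem _ (Xil_mem_ev n hn a d r ha hta hnd hdr hr il hil)
        (X0_pow_mul_mem_ev n hn a d r ha hta hnd hdr hr il hil _ (by omega) _)
  · rw [SetLike.mem_coe, Ideal.mem_comap]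
    show rhoG n (Rx n hn il) (hrel n (i.val + 1)) ∈ evenIdeal n
    by_cases h0 : i.val = 0
    · have h1 : hrel n (i.val + 1) = 0 := by
        unfold hrel
        rw [if_neg (by omega), if_neg (by omega)]
      rw [h1, map_zero]
      exact Ideal.zero_mem _
    by_cases h1 : i.val = 1
    · have hi : i = i1 n hn := Fin.ext h1
      subst hi
      have hlt := lt_two_pow_klog_two_ev n hn a d r ha hta hnd hdr hr il hil
      have hak := a_lt_klog_two n hn a d r ha hta hnd hdr hr il hil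
      rw [show (i1 n hn).val + 1 = 2 from rfl]
      unfold hrel
      rw [if_pos rfl, map_add, map_mul, map_pow, rhoG_evar_one, rhoG_xvar, rhoG_sPoly n hn]
      refine Ideal.add_mem _
        (X0_pow_Rx_mem n hn a d r ha hta hnd hdr hr il hil _ (by omega)) ?_
      unfold SpG
      obtain ⟨k', hk'⟩ : ∃ k', klog n 2 = k' + 1 := ⟨klog n 2 - 1, by omega⟩
      have hX1 := X1_mem_ev n hn a d r ha hta hnd hdr hr il hil
      rw [hk', Nat.add_sub_cancel] at hX1
      rw [hk', Finset.sum_range_succ, Nat.sub_self, pow_zero, one_mul]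
      refine Ideal.add_mem _ (Ideal.sum_mem _ fun t ht => ?_) hX1
      have htk : t + 1 ≤ k' := Finset.mem_range.mp ht
      have h4 : 2 ^ (t + 1) ≤ 2 ^ k' := Nat.pow_le_pow_right (by norm_num) htk
      have h5 : 2 ^ a ≤ 2 ^ k' := Nat.pow_le_pow_right (by norm_num) (by omega)
      have h6 : 2 ^ (k' + 1) = 2 ^ k' * 2 := pow_succ 2 k'
      exact X0_pow_mul_mem_ev n hn a d r ha hta hnd hdr hr il hil _ (by omega) _
    · have hi : 2 ≤ i.val := by omega
      have hB := B_ge_ev n hn a d r ha hta hnd hdr hr il hil i hi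
      unfold hrel
      rw [if_neg (by omega), if_pos ⟨by omega, i.isLt⟩, map_add, map_add, map_mul, map_mul,
        map_pow, map_pow, map_pow, rhoG_evar_one, rhoG_xvar, rhoG_evar_succ, rhoG_sPoly n hn]
      by_cases hil' : i = il
      · rw [hil', A_il_zero n hn a d r ha hta hnd hdr hr il hil, pow_zero, one_mul]
        have hz : (X il : FreeP n) ^ 2 ^ klog n (il.val + 1) + Rx n hn il +
            X (i0 n) ^ ((2 * (il.val + 1) - 4) * 2 ^ klog n (il.val + 1)) *
              SpG n hn (il.val + 1) = 0 := by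
          unfold Rx
          linear_combination ((X il : FreeP n) ^ 2 ^ klog n (il.val + 1) +
            X (i0 n) ^ ((2 * (il.val + 1) - 4) * 2 ^ klog n (il.val + 1)) *
              SpG n hn (il.val + 1)) * two_eq_zero_freeP n
        rw [hz]
        exact Ideal.zero_mem _
      · have hlt := lt_mul_klog_ev n hn a d r ha hta hnd hdr hr il hil i hi hil'
        refine Ideal.add_mem _ (Ideal.add_mem _
          (Xi_mem_ev n hn a d r ha hta hnd hdr hr il hil i hi hil')
          (X0_pow_Rx_mem n hn a d r ha hta hnd hdr hr il hil _ (by omega)))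
          (X0_pow_mul_mem_ev n hn a d r ha hta hnd hdr hr il hil _ (by omega) _)

lemma e1_pow_mul_JE (m : ℕ) (hm : 2 ^ a ≤ m) (y : FreeE n) :
    evar n 1 ^ m * y ∈ Ideal.span ({evar n 1 ^ 2 ^ a} : Set (FreeE n)) ⊔ presIdeal n := by
  have h1 : evar n 1 ^ m = evar n 1 ^ 2 ^ a * evar n 1 ^ (m - 2 ^ a) := by
    rw [← pow_add]
    congr 1
    omega
  rw [h1]
  exact Ideal.mem_sup_left (Ideal.mul_mem_right _ _ (Ideal.mul_mem_right _ _
    (Ideal.subset_span (Set.mem_singleton _))))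

lemma e1x_JE (c : ℕ) (hc : 1 ≤ c) :
    evar n 1 ^ c * xvar n ∈ Ideal.span ({evar n 1 ^ 2 ^ a} : Set (FreeE n)) ⊔ presIdeal n := by
  obtain ⟨c', rfl⟩ : ∃ c', c = c' + 1 := ⟨c - 1, by omega⟩
  rw [pow_succ, mul_assoc]
  exact Ideal.mem_sup_right (Ideal.mul_mem_left _ _
    (Ideal.subset_span (Or.inl (Set.mem_insert_of_mem _ (Set.mem_insert _ _)))))

lemma pow_il_eq : (X (some il) : FreeE n) ^ 2 ^ a = hrel n (il.val + 1) +
    (xvar n + evar n 1 ^ ((2 * (il.val + 1) - 4) * 2 ^ a) * sPoly n (il.val + 1)) := by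
  have hi2 : 2 ≤ il.val := by omega
  have hpe := ej_pow_eq n il hi2
  rw [A_il_zero n hn a d r ha hta hnd hdr hr il hil, pow_zero, one_mul,
    klog_il n hn a d r ha hta hnd hdr hr il hil] at hpe
  exact hpe

lemma iota_mem_ev : evenIdeal n ≤ Ideal.comap (iota n)
    (Ideal.span ({evar n 1 ^ 2 ^ a} : Set (FreeE n)) ⊔ presIdeal n) := by
  have hi2 : 2 ≤ il.val := by omega
  have hBl := B_ge_ev n hn a d r ha hta hnd hdr hr il hil il hi2
  rw [klog_il n hn a d r ha hta hnd hdr hr il hil] at hBl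
  have hpe := pow_il_eq n hn a d r ha hta hnd hdr hr il hil
  unfold evenIdeal
  rw [Ideal.span_le]
  rintro q (hq | ⟨i, rfl⟩)
  · rw [Set.mem_singleton_iff] at hq
    rw [hq, SetLike.mem_coe, Ideal.mem_comap, lIdx_ev n hn a d r ha hta hnd hdr hr il hil,
      kprime_il n hn a d r ha hta hnd hdr hr il hil, Nat.add_sub_cancel, evarE_one, evarE_succ,
      map_mul, map_pow, iota_X, iota_X, hpe, ← evar_one, mul_add, mul_add]
    refine Ideal.add_mem _ (Ideal.mem_sup_right (Ideal.mul_mem_left _ _ (hrel_mem n il)))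
      (Ideal.add_mem _ ?_ ?_)
    · exact Ideal.mem_sup_right
        (Ideal.subset_span (Or.inl (Set.mem_insert_of_mem _ (Set.mem_insert _ _))))
    · rw [← mul_assoc, ← pow_succ']
      exact e1_pow_mul_JE n hn a d r ha hta hnd hdr hr il hil _ (by omega) _
  · rw [SetLike.mem_coe, Ideal.mem_comap]
    show iota n (evarE n (i.val + 1) ^ 2 ^ kprime n (i.val + 1)) ∈ _
    rw [map_pow, evarE_succ, iota_X]
    by_cases h0 : i.val = 0
    · have hi : i = i0 n := Fin.ext h0
      subst hi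
      rw [show (i0 n).val + 1 = 1 from rfl, kprime_one_ev n hn a d r ha hta hnd hdr hr il hil,
        ← evar_one]
      exact Ideal.mem_sup_left (Ideal.subset_span (Set.mem_singleton _))
    by_cases h1 : i.val = 1
    · have hi : i = i1 n hn := Fin.ext h1
      subst hi
      have hlt := lt_two_pow_klog_two_ev n hn a d r ha hta hnd hdr hr il hil
      have hak := a_lt_klog_two n hn a d r ha hta hnd hdr hr il hil
      rw [show (i1 n hn).val + 1 = 2 from rfl, kprime_two_of_lt n hn hlt, e2_pow_eq n hn]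
      refine Ideal.add_mem _ (Ideal.mem_sup_right (hrel_mem n (i1 n hn)))
        (Ideal.add_mem _ (e1x_JE n hn a d r ha hta hnd hdr hr il hil _ (by omega))
          (Ideal.sum_mem _ fun t ht => ?_))
      have htk : t + 1 ≤ klog n 2 - 1 := by
        have := Finset.mem_range.mp ht
        omega
      obtain ⟨k', hk'⟩ : ∃ k', klog n 2 = k' + 1 := ⟨klog n 2 - 1, by omega⟩
      rw [hk', Nat.add_sub_cancel] at htk
      rw [hk']
      have h4 : 2 ^ (t + 1) ≤ 2 ^ k' := Nat.pow_le_pow_right (by norm_num) htk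
      have h5 : 2 ^ a ≤ 2 ^ k' := Nat.pow_le_pow_right (by norm_num) (by omega)
      have h6 : 2 ^ (k' + 1) = 2 ^ k' * 2 := pow_succ 2 k'
      exact e1_pow_mul_JE n hn a d r ha hta hnd hdr hr il hil _ (by omega) _
    · have hi : 2 ≤ i.val := by omega
      by_cases hil' : i = il
      · rw [hil', kprime_il n hn a d r ha hta hnd hdr hr il hil, pow_succ 2 a, pow_mul, hpe]
        have he : (hrel n (il.val + 1) + (xvar n +
            evar n 1 ^ ((2 * (il.val + 1) - 4) * 2 ^ a) * sPoly n (il.val + 1))) ^ 2 =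
            hrel n (il.val + 1) * (hrel n (il.val + 1) + 2 * (xvar n +
              evar n 1 ^ ((2 * (il.val + 1) - 4) * 2 ^ a) * sPoly n (il.val + 1))) +
            (xvar n ^ 2 + evar n 1 ^ ((2 * (il.val + 1) - 4) * 2 ^ a) *
              (sPoly n (il.val + 1) * (2 * xvar n +
                evar n 1 ^ ((2 * (il.val + 1) - 4) * 2 ^ a) * sPoly n (il.val + 1)))) := by
          ring
        rw [he]
        refine Ideal.add_mem _ (Ideal.mem_sup_right (Ideal.mul_mem_right _ _ (hrel_mem n il)))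
          (Ideal.add_mem _ ?_ ?_)
        · exact Ideal.mem_sup_right (Ideal.subset_span
            (Or.inl (Set.mem_insert_of_mem _ (Set.mem_insert_of_mem _ rfl))))
        · exact e1_pow_mul_JE n hn a d r ha hta hnd hdr hr il hil _ (by omega) _
      · have hlt := lt_mul_klog_ev n hn a d r ha hta hnd hdr hr il hil i hi hil'
        have hB := B_ge_ev n hn a d r ha hta hnd hdr hr il hil i hi
        rw [kprime_ge_of_lt n hn i hi hlt, ej_pow_eq n i hi]
        refine Ideal.add_mem _ (Ideal.mem_sup_right (hrel_mem n i))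
          (Ideal.add_mem _ (e1x_JE n hn a d r ha hta hnd hdr hr il hil _ (by omega))
            (e1_pow_mul_JE n hn a d r ha hta hnd hdr hr il hil _ (by omega) _))

end even

theorem main17748 (n : ℕ) (hn : 2 ≤ n)
    (τ : P n →ₐ[ZMod 2] P n) (hτ1 : τ (eps n 1) = eps n 1)
    (hτ : ∀ j : ℕ, 2 ≤ j → j ≤ numVars n → τ (eps n j) = eps n j + eps n 1 ^ (2 * j - 3))
    (ha : 1 ≤ twoExp n) (hne : n ≠ 2 ^ twoExp n) :
    (∀ q : FreeP n,
      (∃ w : P n, τ w = w ∧ psi n q = eps n 1 ^ 2 ^ twoExp n * w) ↔ q ∈ evenIdeal n) ∧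
    (∀ z : P n, τ z = z → ∃ q : FreeP n, ∃ w : P n,
      τ w = w ∧ z = psi n q + eps n 1 ^ 2 ^ twoExp n * w) := by
  obtain ⟨d, r, il, hnd, hdr, hr, hil⟩ := even_data n hn (twoExp n) rfl ha hne
  have hpr := psi_rhoG_ev n hn (twoExp n) d r ha rfl hnd hdr hr il hil
  constructor
  · intro q
    constructor
    · rintro ⟨w, hw, hq⟩
      have hwr : w ∈ (phi n).range := by
        rw [main17741 hn τ hτ1 hτ, AlgHom.mem_equalizer, AlgHom.id_apply]
        exact hw
      obtain ⟨g', hg'⟩ := (AlgHom.mem_range _).mp hwr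
      have hgw : psi n (rhoG n (Rx n hn il) g') = w := by rw [hpr, hg']
      have hk : psi n (q - X (i0 n) ^ 2 ^ twoExp n * rhoG n (Rx n hn il) g') = 0 := by
        rw [map_sub, map_mul, map_pow, ← evarE_one, psi_evarE_one, hgw, hq, sub_self]
      have h1 : phi n (iota n (q - X (i0 n) ^ 2 ^ twoExp n * rhoG n (Rx n hn il) g')) = 0 := by
        rw [phi_iota]
        exact hk
      have h2 : iota n (q - X (i0 n) ^ 2 ^ twoExp n * rhoG n (Rx n hn il) g') ∈ presIdeal n := by
        rw [← main17742 n hn]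
        exact RingHom.mem_ker.mpr h1
      have h3 := rhoG_mem_ev n hn (twoExp n) d r ha rfl hnd hdr hr il hil h2
      rw [Ideal.mem_comap, rhoG_iota] at h3
      have h4 : q = X (i0 n) ^ 2 ^ twoExp n * rhoG n (Rx n hn il) g' +
          (q - X (i0 n) ^ 2 ^ twoExp n * rhoG n (Rx n hn il) g') := by ring
      rw [h4]
      exact Ideal.add_mem _ (Ideal.mul_mem_right _ _
        (X0a_mem n hn (twoExp n) d r ha rfl hnd hdr hr il hil)) h3
    · intro hq
      have h1 := iota_mem_ev n hn (twoExp n) d r ha rfl hnd hdr hr il hil hq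
      rw [Ideal.mem_comap] at h1
      obtain ⟨a', ha', r', hr', hsum⟩ := Submodule.mem_sup.mp h1
      obtain ⟨g, rfl⟩ := Ideal.mem_span_singleton'.mp ha'
      refine ⟨phi n g, tau_phi hn τ hτ1 hτ g, ?_⟩
      have hr0 : phi n r' = 0 := presIdeal_le_ker n hn hr'
      rw [← phi_iota, ← hsum, map_add, map_mul, map_pow, phi_evar_one, hr0, add_zero, mul_comm]
  · intro z hz
    have hzr : z ∈ (phi n).range := by
      rw [main17741 hn τ hτ1 hτ, AlgHom.mem_equalizer, AlgHom.id_apply]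
      exact hz
    obtain ⟨g, hg⟩ := (AlgHom.mem_range _).mp hzr
    refine ⟨rhoG n (Rx n hn il) g, 0, map_zero τ, ?_⟩
    rw [mul_zero, add_zero, hpr, hg]

end Groth.Agent.Lib.Helper6.QsChowLib
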